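/- data for the outer automorphism certificate (generated) -/
import Cfsg.Agent.H55.OutK

set_option autoImplicit false
set_option maxRecDepth 100000

namespace Cfsg.Agent.H55.OutM11

open Cfsg.Agent.H14 Cfsg.Agent.H55

def T0 : ℕ := nat_lit 0x6728519034a
def T1 : ℕ := nat_lit 0x479a612853
def T2 : ℕ := nat_lit 0x786543a2091
def T3 : ℕ := nat_lit 0x419a8765302
def T4 : ℕ := nat_lit 0x458a9031672
def T5 : ℕ := nat_lit 0x768129a4035
def T6 : ℕ := nat_lit 0x271a0543968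
def T7 : ℕ := nat_lit 0x72091543a86
def T10 : ℕ := nat_lit 0xa2786451930
def T12 : ℕ := nat_lit 0x362a5871940
def T13 : ℕ := nat_lit 0x7254961a830
def T14 : ℕ := nat_lit 0x47a35628019
def T15 : ℕ := nat_lit 0x803956a7412
def T16 : ℕ := nat_lit 0x19a46735208
def T17 : ℕ := nat_lit 0x890563742a1
def T18 : ℕ := nat_lit 0x36270548a91
def T19 : ℕ := nat_lit 0x2137954a806
def T20 : ℕ := nat_lit 0x360a8792514
def T21 : ℕ := nat_lit 0x7465920a318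
def T22 : ℕ := nat_lit 0x569a7438012
def T23 : ℕ := nat_lit 0x78369a54012
def T24 : ℕ := nat_lit 0x4765a389210
def T25 : ℕ := nat_lit 0x634987a5210
def T26 : ℕ := nat_lit 0x5948736021a
def T27 : ℕ := nat_lit 0x9764a85213
def T28 : ℕ := nat_lit 0x864a0579213
def T29 : ℕ := nat_lit 0x73a49580216
def T30 : ℕ := nat_lit 0x3809a564217
def T31 : ℕ := nat_lit 0x6790453a218
def t0 : TT ℕ := (.node (.node (.leaf T0 T1) (.leaf T1 T0)) (.node (.leaf T2 T3) (.leaf T3 T2)))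
def t0x : TT ℕ := (.node t0 (.node (.leaf T4 T5) (.leaf T6 T7)))
def t2 : TT ℕ := (.node (.leaf T10 T10) (.node (.leaf T4 T5) (.leaf T5 T4)))
def t1 : TT ℕ := (.node (.node (.leaf T12 T13) (.leaf T14 T15)) (.node (.leaf T16 T17) (.leaf T18 T19)))
def t1i : TT ℕ := (.node (.node (.leaf T13 T12) (.leaf T15 T14)) (.node (.leaf T17 T16) (.leaf T19 T18)))
def s0 : TT ℕ := (.node t1 t1i)
def s1 : TT ℕ := (.node (.node (.leaf T20 T21) (.leaf T21 T20)) (.node (.leaf T22 T23) (.leaf T23 T22)))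
def s2 : TT ℕ := (.node (.node (.leaf T24 T25) (.leaf T25 T24)) (.node (.leaf T26 T27) (.leaf T27 T26)))
def s3 : TT ℕ := (.node (.node (.leaf T28 T29) (.leaf T29 T28)) (.node (.leaf T30 T31) (.leaf T31 T30)))
def sx : TT ℕ := (.leaf T4 T5)
def tt : TT ℕ := (.node (.node s1 s2) (.node s3 (.node sx s0)))
def bs : List ℕ := [nat_lit 1, nat_lit 2, nat_lit 5, nat_lit 8]
def gL0 : Lv := ⟨nat_lit 1, nat_lit 2047, nat_lit 11⟩
def gC0 : LvC := ⟨gL0, [nat_lit 71, nat_lit 103, nat_lit 87, nat_lit 119], [nat_lit 0x132709002424140131210]⟩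
def gL1 : Lv := ⟨nat_lit 2, nat_lit 2045, nat_lit 10⟩
def gC1 : LvC := ⟨gL1, [nat_lit 16, nat_lit 20], [nat_lit 0x1319041407051502120]⟩
def gL2 : Lv := ⟨nat_lit 5, nat_lit 2041, nat_lit 9⟩
def gC2 : LvC := ⟨gL2, [nat_lit 18, nat_lit 22], [nat_lit 0x180a0710190313050]⟩
def gL3 : Lv := ⟨nat_lit 8, nat_lit 2009, nat_lit 8⟩
def gC3 : LvC := ⟨gL3, [nat_lit 17, nat_lit 21], [nat_lit 0x171700041408180]⟩
def gCs : List LvC := [gC0, gC1, gC2, gC3]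
def cL0 : Lv := ⟨nat_lit 0, nat_lit 1089, nat_lit 3⟩
def cC0 : LvC := ⟨cL0, [nat_lit 0x19c78ead, nat_lit 0x47c06a5], [nat_lit 90368]⟩
def cL1 : Lv := ⟨nat_lit 6, nat_lit 1088, nat_lit 2⟩
def cC1 : LvC := ⟨cL1, [nat_lit 0x1006ad], [nat_lit 352]⟩
def cL2 : Lv := ⟨nat_lit 1, nat_lit 958, nat_lit 8⟩
def cC2 : LvC := ⟨cL2, [nat_lit 0x4fc00d1, nat_lit 0x19cf8e5, nat_lit 488494], [nat_lit 0x191823231121110]⟩
def cCs : List LvC := [cC0, cC1, cC2]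
def pcg : List ℕ := [nat_lit 0x11c7825, nat_lit 0x10402e51, nat_lit 0x19c7406a, nat_lit 0x4fc00d1]
def pcc : List (ℕ × List ℕ) := [(nat_lit 2, [nat_lit 4227, nat_lit 2, nat_lit 3]), (nat_lit 0, [nat_lit 66, nat_lit 2]), (nat_lit 1, [nat_lit 1]), (nat_lit 0, [])]
def tls : List TL := [⟨gL0, true, nat_lit 0, [(nat_lit 0x10402e51, nat_lit 2)]⟩, ⟨gL1, false, nat_lit 1, [(nat_lit 0x19c7406a, nat_lit 3)]⟩, ⟨gL2, false, nat_lit 1, [(nat_lit 0x15cf4ea11, nat_lit 4227)]⟩, ⟨gL3, false, nat_lit 1, [(nat_lit 0x19cf8e5, nat_lit 4228)]⟩]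
def ct0 : CT := (.cons (nat_lit 1) (nat_lit 1) (.cons (nat_lit 2) (nat_lit 1) (.cons (nat_lit 5) (nat_lit 1) (.cons (nat_lit 8) (nat_lit 1) (.leaf (nat_lit 0) (nat_lit 0) (nat_lit 0)) .nil) .nil) .nil) (.cons (nat_lit 3) (nat_lit 79) (.cons (nat_lit 9) (nat_lit 326656) (.cons (nat_lit 4) (nat_lit 326656) (.cons (nat_lit 7) (nat_lit 0x4fc00d1) (.leaf (nat_lit 3) (nat_lit 1) (nat_lit 0)) .nil) .nil) .nil) (.cons (nat_lit 10) (nat_lit 95) .nil .nil)))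
def exts : List ℕ := []
def ks : List KE := [⟨nat_lit 1, nat_lit 11, [(nat_lit 71, nat_lit 0x54890f, nat_lit 0)]⟩]
def tsts : List (ℕ × ℕ × ℕ) := [(nat_lit 14199, nat_lit 192238, nat_lit 1), (nat_lit 882135, nat_lit 0xaebaeba, nat_lit 3), (nat_lit 0x37b7b7, nat_lit 0x1ededed, nat_lit 5), (nat_lit 0x375edd7, nat_lit 0x1ebb7aed, nat_lit 8)]
def qs : List ℕ := [nat_lit 8, nat_lit 4, nat_lit 9, nat_lit 6]
def ld : ℕ := nat_lit 3
def cv : ℕ := nat_lit 1791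

end Cfsg.Agent.H55.OutM11
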