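/- kernel checks (generated) -/
import Cfsg.Agent.H55.OutM11D

set_option autoImplicit false
set_option maxRecDepth 100000

namespace Cfsg.Agent.H55.OutM11

open Cfsg.Agent.H14 Cfsg.Agent.H55

theorem cl2_0 : leafOK (lk1 (nat_lit 4) (nat_lit 15)) t0 (nat_lit 11) (nat_lit 0) (nat_lit 11) (nat_lit 1276) T4 T5 = true := by
  decide +kernel

theorem cl3_0 : leafOK (lk1 (nat_lit 4) (nat_lit 15)) t0 (nat_lit 11) (nat_lit 0) (nat_lit 11) (nat_lit 0x4fa543fc) T6 T7 = true := by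
  decide +kernel

theorem cl4_0 : leafOK (lk1 (nat_lit 4) (nat_lit 15)) t0x (nat_lit 11) (nat_lit 0) (nat_lit 11) (nat_lit 5) T4 T5 = true := by
  decide +kernel

theorem cl5_0 : leafOK (lk1 (nat_lit 4) (nat_lit 15)) t0x (nat_lit 11) (nat_lit 0) (nat_lit 11) (nat_lit 0x525105fa61b6) T10 T10 = true := by
  decide +kernel

theorem cl6_0 : leafOK (lk1 (nat_lit 4) (nat_lit 15)) t2 (nat_lit 11) (nat_lit 0) (nat_lit 11) (nat_lit 0x9656f2f) T12 T13 = true := by
  decide +kernel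

theorem cl7_0 : leafOK (lk1 (nat_lit 4) (nat_lit 15)) t2 (nat_lit 11) (nat_lit 0) (nat_lit 11) (nat_lit 0x5bde4a5) T14 T15 = true := by
  decide +kernel

theorem cl8_0 : leafOK (lk1 (nat_lit 4) (nat_lit 15)) t2 (nat_lit 11) (nat_lit 0) (nat_lit 11) (nat_lit 388901) T16 T17 = true := by
  decide +kernel

theorem cl9_0 : leafOK (lk1 (nat_lit 4) (nat_lit 15)) t2 (nat_lit 11) (nat_lit 0) (nat_lit 11) (nat_lit 0x5e56f2b) T18 T19 = true := by
  decide +kernel

theorem cl10_0 : leafOK (lk1 (nat_lit 4) (nat_lit 15)) s0 (nat_lit 11) (nat_lit 0) (nat_lit 11) (nat_lit 0x2bd36e) T20 T21 = true := by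
  decide +kernel

theorem cl11_0 : leafOK (lk1 (nat_lit 4) (nat_lit 15)) s0 (nat_lit 11) (nat_lit 0) (nat_lit 11) (nat_lit 300086) T22 T23 = true := by
  decide +kernel

theorem cl12_0 : leafOK (lk1 (nat_lit 4) (nat_lit 15)) s1 (nat_lit 11) (nat_lit 0) (nat_lit 11) (nat_lit 446) T24 T25 = true := by
  decide +kernel

theorem cl13_0 : leafOK (lk1 (nat_lit 4) (nat_lit 15)) s1 (nat_lit 11) (nat_lit 0) (nat_lit 11) (nat_lit 0x1b8cf06) T26 T27 = true := by
  decide +kernel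

theorem cl14_0 : leafOK (lk1 (nat_lit 4) (nat_lit 15)) s2 (nat_lit 11) (nat_lit 0) (nat_lit 11) (nat_lit 0x16ce41) T28 T29 = true := by
  decide +kernel

theorem cl15_0 : leafOK (lk1 (nat_lit 4) (nat_lit 15)) s2 (nat_lit 11) (nat_lit 0) (nat_lit 11) (nat_lit 26960) T30 T31 = true := by
  decide +kernel

theorem cg : preOK (lk1 (nat_lit 4) (nat_lit 15)) tt (nat_lit 11) (nat_lit 256) (fun _ => true) gCs [] = true := by
  decide +kernel

theorem cc : preOK (lk1 (nat_lit 4) (nat_lit 15)) tt (nat_lit 11) (nat_lit 256) (fun f => agree bs (fun i => f (lk1 (nat_lit 4) (nat_lit 15) T10 i)) (fun i => lk1 (nat_lit 4) (nat_lit 15) T10 (f i))) cCs [] = true := by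
  decide +kernel

theorem cpc : mkL (lk1 (nat_lit 4) (nat_lit 15)) tt pcg (fun fs => pcOK bs (nat_lit 2) fs pcc) = true := by
  decide +kernel

theorem ctl : mkL (lk1 (nat_lit 4) (nat_lit 15)) tt pcg (fun fs => tlOK (lk1 (nat_lit 4) (nat_lit 15)) tt bs fs tls) = true := by
  decide +kernel

theorem ct1 : mkL (lk1 (nat_lit 4) (nat_lit 15)) tt pcg (fun fs => H55.t1 (lk1 (nat_lit 4) (nat_lit 15)) tt (nat_lit 11) (leafO (lk1 (nat_lit 4) (nat_lit 15)) tt (nat_lit 11) (nat_lit 2) bs fs (lk1 (nat_lit 4) (nat_lit 15) T10) exts) tls ct0 (fun i => i) (fun i => i) []) = true := by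
  decide +kernel

theorem cx : xOK (lk1 (nat_lit 4) (nat_lit 15)) tt (nat_lit 11) bs (lk1 (nat_lit 4) (nat_lit 15) T4) (nat_lit 5) (nat_lit 0) (nat_lit 0x47788031f) (nat_lit 2) ks = true := by
  decide +kernel

theorem cd : (agree bs (iterF (lk1 (nat_lit 4) (nat_lit 15) T10) (nat_lit 2)) (fun i => i) && (Nat.blt (nat_lit 1) (nat_lit 11) && !Nat.beq (lk1 (nat_lit 4) (nat_lit 15) T10 (nat_lit 1)) (nat_lit 1))) = true := by
  decide +kernel

theorem cts : testsOK (nat_lit 11) bs (lk1 (nat_lit 4) (nat_lit 15) T4) (lk1 (nat_lit 4) (nat_lit 15) T5) (lk1 (nat_lit 4) (nat_lit 15) T10) tsts = true := by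
  decide +kernel

theorem cgd : goodsOK (lk1 (nat_lit 4) (nat_lit 15)) tt t1 bs (lk1 (nat_lit 4) (nat_lit 15) T4) (lk1 (nat_lit 4) (nat_lit 15) T10) (lk1 (nat_lit 4) (nat_lit 15) T4) (lk1 (nat_lit 4) (nat_lit 15) T10) ks = true := by
  decide +kernel

theorem cld : ldOK (lk1 (nat_lit 4) (nat_lit 15) T4) (nat_lit 11) qs (nat_lit 8) ld cv (nat_lit 5) = true := by
  decide +kernel

theorem cs0 : clsO (lk1 (nat_lit 4) (nat_lit 15)) tt t1 (lk1 (nat_lit 4) (nat_lit 15) T10) (nat_lit 11) qs (nat_lit 8) ld cv (nat_lit 5) (nat_lit 2048) ks tsts (nat_lit 29125) (nat_lit 165) [nat_lit 0x98026b088db92b22c0449916502871c9404c24010431111310464d007b218048d28612de06217c8224510c0286d25a6282813b0b01100810a84b204b310531666e4691c2601d03811a03c018f445f0e27140e85d0d019a510472f240409875] (nat_lit 0) (nat_lit 0) = true := by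
  decide +kernel


end Cfsg.Agent.H55.OutM11
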