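/- data for the outer automorphism certificate (generated) -/
import Cfsg.Agent.H55.OutK

set_option autoImplicit false
set_option maxRecDepth 100000

namespace Cfsg.Agent.H55.OutM12

open Cfsg.Agent.H14 Cfsg.Agent.H55

def T0 : ℕ := nat_lit 0xb95d3892c13aa03abe40a316668909
def T1 : ℕ := nat_lit 0xbc567a266d554662b801792d260a08
def T2 : ℕ := nat_lit 0x7dd74708f0545212cc66acac8201ac
def T3 : ℕ := nat_lit 0xb14f4519d0bcc20abda48a1634c982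
def T4 : ℕ := nat_lit 0x3c69352170bbc6075829ab4a613092
def T5 : ℕ := nat_lit 0x7a8f5a02d072cc28cd12b90a168d2c
def T6 : ℕ := nat_lit 0x5d6d3382212bc62a5d0d519d283124
def T7 : ℕ := nat_lit 0x556cba122371502b9c29999e06b212
def T8 : ℕ := nat_lit 0xaae6ab25d03dc527c481a0cad600c8
def T9 : ℕ := nat_lit 0x74ee7ab1505c483b5240784a933502
def T10 : ℕ := nat_lit 0xbbcee9c232b50692a988a816468826
def T12 : ℕ := nat_lit 0x59ed37a0a4bb9b0a29238b2a010646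
def T13 : ℕ := nat_lit 0x7d4aba04ec9b9a6ba932b023040c44
def T16 : ℕ := nat_lit 0x2bacb7b1418d6439d12638ae02220d
def T17 : ℕ := nat_lit 0x2d5ca5b5e19d812a45223a2e361a04
def T18 : ℕ := nat_lit 0x89e96bb5d27a9809d5222a170090c3
def T19 : ℕ := nat_lit 0x9d1555c2e47c64d2b926b04e20206c
def T20 : ℕ := nat_lit 0xa9671709f055c72b1d0c5a681690c0
def T21 : ℕ := nat_lit 0x72ee5ab2908cc683bcc9506c26c880
def T22 : ℕ := nat_lit 0x2de8b38ab273db08d828999434b080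
def T23 : ℕ := nat_lit 0xb2a353c16c73da2a146899ae124920
def T24 : ℕ := nat_lit 0x7a8eb98628bb9aca5930a8ca231240
def T26 : ℕ := nat_lit 0x53ef32c2c23ac8cad0238a5cd32240
def T27 : ℕ := nat_lit 0xac56aa04f2b148c75cc278e6d44120
def T28 : ℕ := nat_lit 0x5d671512f029ccca5a49705e81b440
def T29 : ℕ := nat_lit 0x8aacbaa69029c4cbcd04735f2184c0
def T30 : ℕ := nat_lit 0xa1d45709e88d5acbce46b056448e00
def T31 : ℕ := nat_lit 0x59dd7525e18cdac2d470b2284148c0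
def T32 : ℕ := nat_lit 0x9c5f62c944aadac75101ba4e280cc0
def T33 : ℕ := nat_lit 0x3d1eabcac3aadac744c92867011100
def T34 : ℕ := nat_lit 0xb5e355a4e2715ac9bd03a194191200
def T35 : ℕ := nat_lit 0xb5e8758ea153dac99649899c244080
def T36 : ℕ := nat_lit 0x5cdc5b05e9a1dacbd48251a2384900
def T37 : ℕ := nat_lit 0x5cd4fb08a38d5acb9e0171a8922240
def T38 : ℕ := nat_lit 0x9bed1592f0a54093b9a6530a292061
def T39 : ℕ := nat_lit 0x8d5cfb8e90b292699d825a0b20900d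
def t0 : TT ℕ := (.node (.node (.leaf T0 T1) (.leaf T1 T0)) (.node (.leaf T2 T3) (.leaf T3 T2)))
def t0x : TT ℕ := (.node t0 (.node (.leaf T4 T5) (.leaf T6 T7)))
def t2 : TT ℕ := (.node (.leaf T10 T10) (.node (.leaf T8 T9) (.leaf T9 T8)))
def t1 : TT ℕ := (.node (.node (.leaf T12 T13) (.leaf T5 T4)) (.node (.leaf T16 T17) (.leaf T18 T19)))
def t1i : TT ℕ := (.node (.node (.leaf T13 T12) (.leaf T4 T5)) (.node (.leaf T17 T16) (.leaf T19 T18)))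
def s0 : TT ℕ := (.node t1 t1i)
def s1 : TT ℕ := (.node (.node (.leaf T20 T21) (.leaf T21 T20)) (.node (.leaf T22 T23) (.node (.leaf T23 T22) (.leaf T24 T24))))
def s2 : TT ℕ := (.node (.node (.leaf T26 T27) (.leaf T27 T26)) (.node (.leaf T28 T29) (.leaf T29 T28)))
def s3 : TT ℕ := (.node (.node (.leaf T30 T31) (.leaf T31 T30)) (.node (.leaf T32 T33) (.leaf T33 T32)))
def s4 : TT ℕ := (.node (.node (.leaf T34 T35) (.leaf T35 T34)) (.node (.leaf T36 T37) (.leaf T37 T36)))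
def sx : TT ℕ := (.node (.leaf T8 T9) (.leaf T38 T39))
def tt : TT ℕ := (.node (.node s3 s4) (.node (.node sx s0) (.node s1 s2)))
def bs : List ℕ := [nat_lit 0, nat_lit 12, nat_lit 13, nat_lit 6, nat_lit 9]
def gL0 : Lv := ⟨nat_lit 0, nat_lit 340831, nat_lit 12⟩
def gC0 : LvC := ⟨gL0, [nat_lit 69, nat_lit 101, nat_lit 85, nat_lit 117], [nat_lit 0x84466d26018cc461018080200]⟩
def gL1 : Lv := ⟨nat_lit 12, nat_lit 340830, nat_lit 11⟩
def gC1 : LvC := ⟨gL1, [nat_lit 35, nat_lit 43, nat_lit 123], [nat_lit 0x460602084041029148182c0]⟩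
def gL2 : Lv := ⟨nat_lit 13, nat_lit 336734, nat_lit 10⟩
def gC2 : LvC := ⟨gL2, [nat_lit 39, nat_lit 47], [nat_lit 0x32008a45006130105a2d0]⟩
def gL3 : Lv := ⟨nat_lit 6, nat_lit 328542, nat_lit 9⟩
def gC3 : LvC := ⟨gL3, [nat_lit 16, nat_lit 20], [nat_lit 0x110482029148040c260]⟩
def gL4 : Lv := ⟨nat_lit 9, nat_lit 328478, nat_lit 8⟩
def gC4 : LvC := ⟨gL4, [nat_lit 18, nat_lit 22], [nat_lit 0x8c4604040a012290]⟩
def gCs : List LvC := [gC0, gC1, gC2, gC3, gC4]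
def cL0 : Lv := ⟨nat_lit 1, nat_lit 278, nat_lit 4⟩
def cC0 : LvC := ⟨cL0, [nat_lit 0xea36eef0e2, nat_lit 0x2aceef0062], [nat_lit 0x8842210]⟩
def cL1 : Lv := ⟨nat_lit 2, nat_lit 276, nat_lit 3⟩
def cC1 : LvC := ⟨cL1, [nat_lit 0x6d6eff00a], [nat_lit 294944]⟩
def cL2 : Lv := ⟨nat_lit 4, nat_lit 272, nat_lit 2⟩
def cC2 : LvC := ⟨cL2, [nat_lit 0x22cde784e2], [nat_lit 576]⟩
def cL3 : Lv := ⟨nat_lit 10, nat_lit 0x8a0400, nat_lit 4⟩
def cC3 : LvC := ⟨cL3, [nat_lit 0xabd8eff8422, nat_lit 0x269bd8fe700e2], [nat_lit 0xdc542a0]⟩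
def cL4 : Lv := ⟨nat_lit 0, nat_lit 65, nat_lit 2⟩
def cC4 : LvC := ⟨cL4, [nat_lit 0x459cfe74e2], [nat_lit 512]⟩
def cCs : List LvC := [cC0, cC1, cC2, cC3, cC4]
def pcg : List ℕ := [nat_lit 0x1946dce67862, nat_lit 0x3a8db9ceef062, nat_lit 0x328db9ccef400e, nat_lit 0x1d57f00, nat_lit 0x8a3ec6f0a, nat_lit 0x459cfe74e2]
def pcc : List (ℕ × List ℕ) := [(nat_lit 5, [nat_lit 274693, nat_lit 2, nat_lit 3, nat_lit 261, nat_lit 5]), (nat_lit 0, [nat_lit 4228, nat_lit 132, nat_lit 3, nat_lit 4]), (nat_lit 3, [nat_lit 67, nat_lit 131, nat_lit 3]), (nat_lit 2, [nat_lit 1, nat_lit 2]), (nat_lit 0, [nat_lit 1]), (nat_lit 0, [])]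
def tls : List TL := [⟨gL0, true, nat_lit 0, [(nat_lit 0x8eef42, nat_lit 270534), (nat_lit 0x19ceef84e, nat_lit 4293)]⟩, ⟨gL1, false, nat_lit 0, [(nat_lit 0x1946dce67862, nat_lit 1)]⟩, ⟨gL2, false, nat_lit 0, [(nat_lit 0x2a8cef062, nat_lit 270532)]⟩, ⟨gL3, false, nat_lit 0, [(nat_lit 0x459cfe74e2, nat_lit 6)]⟩, ⟨gL4, false, nat_lit 0, [(nat_lit 0x36ba2ceef400e, nat_lit 70)]⟩]
def ct0 : CT := (.cons (nat_lit 0) (nat_lit 1) (.cons (nat_lit 12) (nat_lit 1) (.cons (nat_lit 13) (nat_lit 1) (.cons (nat_lit 6) (nat_lit 1) (.cons (nat_lit 9) (nat_lit 1) (.leaf (nat_lit 0) (nat_lit 0) (nat_lit 0)) .nil) .nil) .nil) .nil) (.cons (nat_lit 6) (nat_lit 69) (.cons (nat_lit 9) (nat_lit 71283) (.cons (nat_lit 3) (nat_lit 0x459cfe7) (.cons (nat_lit 0) (nat_lit 0x459cfe74) (.cons (nat_lit 12) (nat_lit 0x459cfe74e2) (.leaf (nat_lit 3) (nat_lit 1) (nat_lit 0)) .nil) .nil) .nil) .nil)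 .nil))
def exts : List ℕ := []
def ks : List KE := [⟨nat_lit 1, nat_lit 17, [(nat_lit 261, nat_lit 0x12e43fe7317d, nat_lit 0)]⟩, ⟨nat_lit 2, nat_lit 25, [(nat_lit 335, nat_lit 0x691f76ed, nat_lit 1)]⟩]
def tsts : List (ℕ × ℕ × ℕ) := [(nat_lit 55, nat_lit 46, nat_lit 2), (nat_lit 55, nat_lit 46, nat_lit 7), (nat_lit 218967, nat_lit 0x2aeaeaea, nat_lit 4), (nat_lit 55, nat_lit 46, nat_lit 22), (nat_lit 218967, nat_lit 0x2aeaeaea, nat_lit 11)]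
def Tp : ℕ := nat_lit 0x830466a80540637225ee1d247aaed3
def Tp' : ℕ := nat_lit 0x60466015b74a2761494f2520b3d5d1
def qs : List ℕ := [nat_lit 5, nat_lit 3, nat_lit 13, nat_lit 1, nat_lit 16, nat_lit 19]
def ld : ℕ := nat_lit 129
def cv : ℕ := nat_lit 0xfeffdf

end Cfsg.Agent.H55.OutM12
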