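/- kernel checks (generated) -/
import Cfsg.Agent.H55.OutM12D

set_option autoImplicit false
set_option maxRecDepth 100000

namespace Cfsg.Agent.H55.OutM12

open Cfsg.Agent.H14 Cfsg.Agent.H55

theorem cl2_0 : leafOK (lk1 (nat_lit 5) (nat_lit 31)) t0 (nat_lit 24) (nat_lit 0) (nat_lit 24) (nat_lit 0x7ec1015) T4 T5 = true := by
  decide +kernel

theorem cl3_0 : leafOK (lk1 (nat_lit 5) (nat_lit 31)) t0 (nat_lit 24) (nat_lit 0) (nat_lit 24) (nat_lit 79) T6 T7 = true := by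
  decide +kernel

theorem cl4_0 : leafOK (lk1 (nat_lit 5) (nat_lit 31)) t0x (nat_lit 24) (nat_lit 0) (nat_lit 24) (nat_lit 21) T8 T9 = true := by
  decide +kernel

theorem cl5_0 : leafOK (lk1 (nat_lit 5) (nat_lit 31)) t0x (nat_lit 24) (nat_lit 0) (nat_lit 24) (nat_lit 0x54d3f086) T10 T10 = true := by
  decide +kernel

theorem cl6_0 : leafOK (lk1 (nat_lit 5) (nat_lit 31)) t2 (nat_lit 24) (nat_lit 0) (nat_lit 24) (nat_lit 608985) T12 T13 = true := by
  decide +kernel

theorem cl7_0 : leafOK (lk1 (nat_lit 5) (nat_lit 31)) t2 (nat_lit 24) (nat_lit 0) (nat_lit 24) (nat_lit 0x2def65) T5 T4 = true := by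
  decide +kernel

theorem cl8_0 : leafOK (lk1 (nat_lit 5) (nat_lit 31)) t2 (nat_lit 24) (nat_lit 0) (nat_lit 24) (nat_lit 386223) T16 T17 = true := by
  decide +kernel

theorem cl9_0 : leafOK (lk1 (nat_lit 5) (nat_lit 31)) t2 (nat_lit 24) (nat_lit 0) (nat_lit 24) (nat_lit 24137) T18 T19 = true := by
  decide +kernel

theorem cl10_0 : leafOK (lk1 (nat_lit 5) (nat_lit 31)) s0 (nat_lit 24) (nat_lit 0) (nat_lit 24) (nat_lit 318561) T20 T21 = true := by
  decide +kernel

theorem cl11_0 : leafOK (lk1 (nat_lit 5) (nat_lit 31)) s0 (nat_lit 24) (nat_lit 0) (nat_lit 24) (nat_lit 52548) T22 T23 = true := by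
  decide +kernel

theorem cl12_0 : leafOK (lk1 (nat_lit 5) (nat_lit 31)) s0 (nat_lit 24) (nat_lit 0) (nat_lit 24) (nat_lit 0x2522c9) T24 T24 = true := by
  decide +kernel

theorem cl13_0 : leafOK (lk1 (nat_lit 5) (nat_lit 31)) s1 (nat_lit 24) (nat_lit 0) (nat_lit 24) (nat_lit 12029) T26 T27 = true := by
  decide +kernel

theorem cl14_0 : leafOK (lk1 (nat_lit 5) (nat_lit 31)) s1 (nat_lit 24) (nat_lit 0) (nat_lit 24) (nat_lit 746343) T28 T29 = true := by
  decide +kernel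

theorem cl15_0 : leafOK (lk1 (nat_lit 5) (nat_lit 31)) s2 (nat_lit 24) (nat_lit 0) (nat_lit 24) (nat_lit 98389) T30 T31 = true := by
  decide +kernel

theorem cl16_0 : leafOK (lk1 (nat_lit 5) (nat_lit 31)) s2 (nat_lit 24) (nat_lit 0) (nat_lit 24) (nat_lit 504070) T32 T33 = true := by
  decide +kernel

theorem cl17_0 : leafOK (lk1 (nat_lit 5) (nat_lit 31)) s3 (nat_lit 24) (nat_lit 0) (nat_lit 24) (nat_lit 27) T34 T35 = true := by
  decide +kernel

theorem cl18_0 : leafOK (lk1 (nat_lit 5) (nat_lit 31)) s3 (nat_lit 24) (nat_lit 0) (nat_lit 24) (nat_lit 274448) T36 T37 = true := by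
  decide +kernel

theorem cl19_0 : leafOK (lk1 (nat_lit 5) (nat_lit 31)) t2 (nat_lit 24) (nat_lit 0) (nat_lit 24) (nat_lit 21) T38 T39 = true := by
  decide +kernel

theorem cg : preOK (lk1 (nat_lit 5) (nat_lit 31)) tt (nat_lit 24) (nat_lit 512) (fun _ => true) gCs [] = true := by
  decide +kernel

theorem cc : preOK (lk1 (nat_lit 5) (nat_lit 31)) tt (nat_lit 24) (nat_lit 512) (fun f => agree bs (fun i => f (lk1 (nat_lit 5) (nat_lit 31) T10 i)) (fun i => lk1 (nat_lit 5) (nat_lit 31) T10 (f i))) cCs [] = true := by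
  decide +kernel

theorem cpc : mkL (lk1 (nat_lit 5) (nat_lit 31)) tt pcg (fun fs => pcOK bs (nat_lit 2) fs pcc) = true := by
  decide +kernel

theorem ctl : mkL (lk1 (nat_lit 5) (nat_lit 31)) tt pcg (fun fs => tlOK (lk1 (nat_lit 5) (nat_lit 31)) tt bs fs tls) = true := by
  decide +kernel

theorem ct1 : mkL (lk1 (nat_lit 5) (nat_lit 31)) tt pcg (fun fs => H55.t1 (lk1 (nat_lit 5) (nat_lit 31)) tt (nat_lit 24) (leafO (lk1 (nat_lit 5) (nat_lit 31)) tt (nat_lit 24) (nat_lit 2) bs fs (lk1 (nat_lit 5) (nat_lit 31) T10) exts) tls ct0 (fun i => i) (fun i => i) []) = true := by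
  decide +kernel

theorem cx : xOK (lk1 (nat_lit 5) (nat_lit 31)) tt (nat_lit 24) bs (lk1 (nat_lit 5) (nat_lit 31) T8) (nat_lit 11) (nat_lit 0) (nat_lit 0x6a3f79cdb) (nat_lit 3) ks = true := by
  decide +kernel

theorem cd : (agree bs (iterF (lk1 (nat_lit 5) (nat_lit 31) T10) (nat_lit 2)) (fun i => i) && (Nat.blt (nat_lit 0) (nat_lit 24) && !Nat.beq (lk1 (nat_lit 5) (nat_lit 31) T10 (nat_lit 0)) (nat_lit 0))) = true := by
  decide +kernel

theorem cts : testsOK (nat_lit 24) bs (lk1 (nat_lit 5) (nat_lit 31) T8) (lk1 (nat_lit 5) (nat_lit 31) T9) (lk1 (nat_lit 5) (nat_lit 31) T10) tsts = true := by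
  decide +kernel

theorem cp0 : piOK (nat_lit 24) (nat_lit 0) (nat_lit 24) (lk1 (nat_lit 5) (nat_lit 31) Tp) (lk1 (nat_lit 5) (nat_lit 31) Tp') (lk1 (nat_lit 5) (nat_lit 31) T8) (lk1 (nat_lit 5) (nat_lit 31) T10) (run (lk1 (nat_lit 5) (nat_lit 31)) tt (nat_lit 0x3e8a762)) (run (lk1 (nat_lit 5) (nat_lit 31)) tt (nat_lit 847608)) = true := by
  decide +kernel

theorem cfix : fixOK (lk1 (nat_lit 5) (nat_lit 31)) tt (nat_lit 24) (nat_lit 0) [nat_lit 35, nat_lit 43, nat_lit 123] = true := by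
  decide +kernel

theorem cnin : notIn (lk1 (nat_lit 5) (nat_lit 31) Tp) gL0.D (nat_lit 0) (gCs.map LvC.L) = true := by
  decide +kernel

theorem cgd : goodsOK (lk1 (nat_lit 5) (nat_lit 31)) tt t1 bs (lk1 (nat_lit 5) (nat_lit 31) T8) (lk1 (nat_lit 5) (nat_lit 31) T10) (run (lk1 (nat_lit 5) (nat_lit 31)) tt (nat_lit 0x3e8a762)) (run (lk1 (nat_lit 5) (nat_lit 31)) tt (nat_lit 847608)) ks = true := by
  decide +kernel

theorem cld : ldOK (lk1 (nat_lit 5) (nat_lit 31) T8) (nat_lit 24) qs (nat_lit 5) ld cv (nat_lit 11) = true := by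
  decide +kernel

theorem cs0 : clsO (lk1 (nat_lit 5) (nat_lit 31)) tt t1 (lk1 (nat_lit 5) (nat_lit 31) T10) (nat_lit 24) qs (nat_lit 5) ld cv (nat_lit 11) (nat_lit 8192) ks tsts (nat_lit 0x16aa298d) (nat_lit 495) [nat_lit 0x12269410356787300815039e12d312841615c51531b1020dc841534492480a251409dc0c03cc1920e404c89091b181e9348b038080db160c0b44c429680748641250901610d2c6b30db862481a19533786c08944d030a908000806326e9ab88564132b5852c225a9b28401882e64f429d980838618d304120430e0410b290a480c10b21684203300610dc8714c321583928638ae444589a18931b44412079844c681b4, nat_lit 0xe1d226c12221f8014d841e485a714c21a12739404740e415c00c8190e3a1842b180403de62c0e99700c081780ea807214006d09e9a343ce1e10a796082681800ca1fbca6442403d0534ece04800b9590fda49b0c61b9830c13108313a430201120f85589b449402a92700893790fc81eca047990ef9cc002d23403e1c1c0ec4b029e43dc9221ca2c991d829810c30187803ee48e009130f00a6d9] (nat_lit 0) (nat_lit 0) = true := by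
  decide +kernel


end Cfsg.Agent.H55.OutM12
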