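/-
Data for the outer automorphism group of the Lyons group: a Sylow 5-subgroup and its overgroups.
-/
import Cfsg.Agent.H55.Pc
import Cfsg.Agent.H17.LyS

set_option autoImplicit false
set_option maxRecDepth 100000
set_option exponentiation.threshold 400000

namespace Cfsg.Agent.H55.OutLy

open Cfsg.Agent.H58 Cfsg.Agent.H17 LyP LyF

noncomputable def t0 : List ℕ → List ℕ → Bool := eqvN LyM0.nets (mskL g0) S0
noncomputable def t1 : List ℕ → List ℕ → Bool := eqvN LyM1.nets (mskL g1) S1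
def l5 : List (List ℕ) := [[11]]
def l4 : List (List ℕ) := [4, 5, 3, 6, 3, 5, 4, 6] :: l5
def l3 : List (List ℕ) := [3, 5, 4, 6] :: l4
def l2 : List (List ℕ) := [5] :: l3
def l1 : List (List ℕ) := [3] :: l2
def gs : List (List ℕ) := [2, 5, 1] :: l1
def qs : List (List ℕ) := [2, 5, 1] :: l2
def tau : List ℕ := [1, 4, 1, 3, 3, 1]
def w0 : List ℕ := [9, 3, 1, 4]
def bad : List (List ℕ × List ℕ) := [([9], [1, 1, 8, 1, 1, 6, 8, 1, 8, 1]), ([9, 1], [6, 6, 8, 6, 8]), ([9, 1, 3, 1, 4], [8, 8]), ([9, 3, 1, 4, 1], [8, 8]), ([9, 1, 3, 1, 4, 1], [6, 8, 6, 8, 6])]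
def u2 : List ℕ := [5, 5, 4, 5, 3, 6, 3, 5, 4, 6, 4, 5, 3, 6, 3, 5, 4, 6]
def u3 : List ℕ := [3, 5, 4, 6, 3, 5, 4, 6, 11, 11]
def u4 : List ℕ := [4, 5, 3, 6, 3, 5, 4, 6, 4, 5, 3, 6, 3, 5, 4, 6]
def bo : List (List ℕ) := gs ++ [tau, [1, 1]]
theorem pc0 : (t1 (List.replicate 5 [2, 5, 1]).flatten (ex l1 [0, 0, 0, 0, 0]) &&
    prOK gs [[2, 5, 1]] [[[0, 0, 0, 0, 0]], [[0, 2, 0, 2, 0]], [[0, 0, 0, 0, 1]], [[0, 0, 0, 0, 4]], [[0, 0, 0, 0, 4]], [[0, 0, 0, 0, 0]]] fun a b e => t1 (a ++ b) (ex l1 e ++ b ++ a)) = true := by decide +kernel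
theorem pc1 : (t1 (List.replicate 5 [3]).flatten (ex l2 [0, 0, 0, 0]) &&
    prOK gs [[3]] [[[3, 0, 3, 0]], [[0, 0, 0, 0]], [[0, 4, 0, 0]], [[0, 0, 4, 0]], [[0, 0, 0, 0]], [[0, 0, 0, 0]]] fun a b e => t1 (a ++ b) (ex l2 e ++ b ++ a)) = true := by decide +kernel
theorem pc2 : (t1 (List.replicate 5 [5]).flatten (ex l3 [0, 0, 0]) &&
    prOK gs [[5]] [[[0, 0, 4]], [[1, 0, 0]], [[0, 0, 0]], [[0, 0, 3]], [[0, 0, 0]], [[0, 0, 0]]] fun a b e => t1 (a ++ b) (ex l3 e ++ b ++ a)) = true := by decide +kernel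
theorem pc3 : (t1 (List.replicate 5 [3, 5, 4, 6]).flatten (ex l4 [0, 0]) &&
    prOK gs [[3, 5, 4, 6]] [[[0, 1]], [[1, 0]], [[0, 2]], [[0, 0]], [[0, 0]], [[0, 0]]] fun a b e => t1 (a ++ b) (ex l4 e ++ b ++ a)) = true := by decide +kernel
theorem pc4 : (t1 (List.replicate 5 [4, 5, 3, 6, 3, 5, 4, 6]).flatten (ex l5 [0]) &&
    prOK gs [[4, 5, 3, 6, 3, 5, 4, 6]] [[[1]], [[0]], [[0]], [[0]], [[0]], [[0]]] fun a b e => t1 (a ++ b) (ex l5 e ++ b ++ a)) = true := by decide +kernel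
theorem pc5 : (t1 (List.replicate 5 [11]).flatten (ex [] []) &&
    prOK gs [[11]] [[[]], [[]], [[]], [[]], [[]], [[]]] fun a b e => t1 (a ++ b) (ex [] e ++ b ++ a)) = true := by decide +kernel
theorem cQ : prOK qs [[2, 5, 1], [5], [3, 5, 4, 6], [4, 5, 3, 6, 3, 5, 4, 6], [11]] [[[0], [4], [1], [1], [0]], [[1], [0], [2], [0], [0]], [[4], [3], [0], [0], [0]], [[4], [0], [0], [0], [0]], [[0], [0], [0], [0], [0]]] (fun a b e => t1 (a ++ b) (ex l5 e ++ b ++ a)) = true := by decide +kernel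
theorem cR : prOK l1 [[3], [5], [3, 5, 4, 6], [4, 5, 3, 6, 3, 5, 4, 6], [11]] [[[0, 0, 0], [1, 0, 0], [0, 1, 0], [0, 0, 0], [0, 0, 0]], [[4, 0, 0], [0, 0, 0], [0, 0, 2], [0, 0, 0], [0, 0, 0]], [[0, 4, 0], [0, 0, 3], [0, 0, 0], [0, 0, 0], [0, 0, 0]], [[0, 0, 0], [0, 0, 0], [0, 0, 0], [0, 0, 0], [0, 0, 0]], [[0, 0, 0], [0, 0, 0], [0, 0, 0], [0, 0, 0], [0, 0, 0]]] (fun a b e => t1 (a ++ b) (ex l3 e ++ b ++ a)) = true := by decide +kernel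
theorem cZ : prOK l3 [[3, 5, 4, 6], [4, 5, 3, 6, 3, 5, 4, 6], [11]] [[[], [], []], [[], [], []], [[], [], []]] (fun a b e => t1 (a ++ b) (ex [] e ++ b ++ a)) = true := by decide +kernel
theorem cR4 : prOK l1 l4 [[[], []], [[], []], [[], []], [[], []], [[], []]] (fun a b e => t1 (a ++ b) (ex [] e ++ b ++ a)) = true := by decide +kernel
theorem cS : prOK gs [[2, 5, 1], [3], [5], [3, 5, 4, 6], [4, 5, 3, 6, 3, 5, 4, 6], [11]] [[[0, 0, 0, 0], [3, 0, 3, 0], [0, 0, 0, 4], [0, 0, 0, 1], [0, 0, 0, 1], [0, 0, 0, 0]], [[2, 0, 2, 0], [0, 0, 0, 0], [0, 1, 0, 0], [0, 0, 1, 0], [0, 0, 0, 0], [0, 0, 0, 0]], [[0, 0, 0, 1], [0, 4, 0, 0], [0, 0, 0, 0], [0, 0, 0, 2], [0, 0, 0, 0], [0, 0, 0, 0]], [[0, 0, 0, 4], [0, 0, 4, 0], [0, 0, 0, 3], [0, 0, 0, 0], [0, 0, 0, 0], [0, 0, 0, 0]], [[0, 0, 0, 4], [0, 0, 0, 0], [0, 0, 0, 0], [0, 0, 0, 0], [0, 0, 0, 0],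 [0, 0, 0, 0]], [[0, 0, 0, 0], [0, 0, 0, 0], [0, 0, 0, 0], [0, 0, 0, 0], [0, 0, 0, 0], [0, 0, 0, 0]]] (fun a b e => t1 (a ++ b) (ex l2 e ++ b ++ a)) = true := by decide +kernel
theorem nP : prOK [[1], [3], [5], [9]] qs [[[0, 1, 0, 0, 0], [2, 0, 0, 0, 0], [1, 1, 1, 3, 2], [4, 1, 2, 4, 1], [0, 0, 0, 0, 3]], [[1, 2, 0, 2, 0], [0, 1, 1, 0, 3], [0, 0, 1, 1, 0], [0, 0, 0, 1, 0], [0, 0, 0, 0, 1]], [[1, 0, 0, 0, 1], [0, 1, 0, 0, 0], [0, 0, 1, 0, 2], [0, 0, 0, 1, 0], [0, 0, 0, 0, 1]], [[4, 1, 2, 4, 1], [0, 0, 0, 3, 0], [3, 0, 1, 3, 1], [0, 4, 0, 0, 0], [0, 0, 0, 0, 3]]] (fun s q e => t1 (s ++ q) (ex qs e ++ s)) = true := by decide +kernel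
theorem nE : prOK [[13]] l1 [[[0, 3, 4, 4, 2], [2, 0, 3, 3, 0], [0, 0, 4, 4, 1], [0, 0, 0, 0, 4], [0, 0, 0, 4, 0]]] (fun s q e => t0 (s ++ q) (ex l1 e ++ s)) = true := by decide +kernel
theorem nT : prOK [tau, [1, 1]] gs [[[4, 0, 2, 1, 4, 1], [0, 3, 0, 0, 0, 0], [0, 0, 2, 0, 0, 0], [0, 0, 0, 1, 1, 1], [0, 0, 0, 0, 3, 0], [0, 0, 0, 0, 0, 2]], [[2, 0, 0, 0, 0, 0], [0, 1, 0, 0, 0, 0], [0, 0, 2, 0, 0, 0], [0, 0, 0, 2, 0, 2], [0, 0, 0, 0, 2, 0], [0, 0, 0, 0, 0, 4]]] (fun s q e => t1 (s ++ q) (ex gs e ++ s)) = true := by decide +kernel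
theorem nW : prOK (bo ++ [w0]) l3 [[[1, 0, 1], [0, 1, 1], [0, 0, 1]], [[1, 1, 0], [0, 1, 0], [0, 0, 1]], [[1, 0, 2], [0, 1, 0], [0, 0, 1]], [[1, 0, 0], [0, 1, 0], [0, 0, 1]], [[1, 0, 0], [0, 1, 0], [0, 0, 1]], [[1, 0, 0], [0, 1, 0], [0, 0, 1]], [[1, 1, 1], [0, 3, 0], [0, 0, 2]], [[2, 0, 2], [0, 2, 0], [0, 0, 4]], [[3, 2, 1], [1, 2, 4], [0, 0, 4]]] (fun s q e => t1 (s ++ q) (ex l3 e ++ s)) = true := by decide +kernel
theorem q0f : fixErr LyM1.nets qs [3, 2, 1, 0] = 0 := by decide +kernel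
theorem q0o : orbErr LyM1.nets qs [0, 1, 2, 3, 4, 1, 2, 0, 3, 1, 2, 0, 3, 0, 1, 2, 3, 0, 2, 1] 8 12 3125 = 0 := by decide +kernel
theorem q1f : fixErr LyM1.nets [[1, 1]] [8, 3, 2, 1, 0] = 0 := by decide +kernel
theorem q1o : orbErr LyM1.nets [[1, 1]] [0, 0, 0] 27 12 4 = 0 := by decide +kernel
theorem r0f : fixErr LyM1.nets l2 [] = 0 := by decide +kernel
theorem r0o : orbErr LyM1.nets l2 [0, 1, 2, 3, 0, 1, 0, 2, 1, 2, 0, 1, 2, 1, 0, 0] 8 12 625 = 0 := by decide +kernel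
theorem r1f : fixErr LyM1.nets [[3]] [8] = 0 := by decide +kernel
theorem r1o : orbErr LyM1.nets [[3]] [0, 0, 0, 0] 1 12 5 = 0 := by decide +kernel
theorem k1f : fixErr LyM1.nets [[3]] [0] = 0 := by decide +kernel
theorem k1o : orbErr LyM1.nets [[3]] [0, 0, 0, 0] 1 12 5 = 0 := by decide +kernel
theorem k2f : fixErr LyM1.nets [tau] [1, 0] = 0 := by decide +kernel
theorem k2o : orbErr LyM1.nets [tau] [0, 0, 0] 2 12 4 = 0 := by decide +kernel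
theorem k0o : ∀ w ∈ w0 :: bad.map Prod.fst, orbErr LyM1.nets [[3], w] [1, 0, 0, 0, 0] 0 12 6 = 0 := by decide +kernel
theorem k3 : ∀ e ∈ bad, fixErr LyM1.nets (subW (bo ++ [e.1]) [e.2]) [2, 1, 0] = 0 ∧
    orbErr LyM1.nets (subW (bo ++ [e.1]) [e.2]) [0] 3 12 2 = 0 := by decide +kernel
theorem sf0 : fixErr LyM1.nets [[3], [9]] [] = 0 := by decide +kernel
theorem so0 : orbErr LyM1.nets [[3], [9]] [1, 0, 0, 0, 0] 0 12 6 = 0 := by decide +kernel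
theorem sf1 : fixErr LyM1.nets [[4]] [0] = 0 := by decide +kernel
theorem so1 : orbErr LyM1.nets [[4]] [0, 0, 0, 0] 1 12 5 = 0 := by decide +kernel
theorem sf2 : fixErr LyM1.nets [[1], [3, 1, 4], [3, 3, 2, 4, 4]] [1, 0] = 0 := by decide +kernel
theorem so2 : orbErr LyM1.nets [[1], [3, 1, 4], [3, 3, 2, 4, 4]] [2, 1, 0] 2 12 4 = 0 := by decide +kernel
theorem sf3 : fixErr LyM1.nets [[1], [3, 1, 4]] [2, 1, 0] = 0 := by decide +kernel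
theorem so3 : orbErr LyM1.nets [[1], [3, 1, 4]] [0, 1] 3 12 3 = 0 := by decide +kernel
theorem sf4 : fixErr LyM1.nets [[3, 1, 4]] [3, 2, 1, 0] = 0 := by decide +kernel
theorem so4 : orbErr LyM1.nets [[3, 1, 4]] [0] 4 12 2 = 0 := by decide +kernel
theorem bf0 : fixErr LyM1.nets [[5], [1], [3]] [] = 0 := by decide +kernel
theorem bo0 : orbErr LyM1.nets [[5], [1], [3]] [0, 0, 1, 2, 0, 1, 2, 0, 1, 2, 0, 1, 2, 0, 1, 2, 0, 1, 0] 8 12 3125 = 0 := by decide +kernel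
theorem bf1 : fixErr LyM1.nets [[5, 11, 11, 6, 1, 11], [5, 11, 9, 3, 10, 12, 6], [6, 3, 5, 10, 1, 3, 6, 11]] [8] = 0 := by decide +kernel
theorem bo1 : orbErr LyM1.nets [[5, 11, 11, 6, 1, 11], [5, 11, 9, 3, 10, 12, 6], [6, 3, 5, 10, 1, 3, 6, 11]] [0, 1, 2, 0, 1, 2, 0, 1, 2, 0, 1, 2, 0, 2, 0] 27 12 960 = 0 := by decide +kernel
theorem bf2 : fixErr LyM1.nets [[6, 2, 3, 9, 1, 11, 6, 10, 1, 10, 1, 11, 4, 5, 3, 1, 4, 4, 1, 3, 1, 5]] [27, 8] = 0 := by decide +kernel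
theorem bo2 : orbErr LyM1.nets [[6, 2, 3, 9, 1, 11, 6, 10, 1, 10, 1, 11, 4, 5, 3, 1, 4, 4, 1, 3, 1, 5]] [0, 0] 9 12 3 = 0 := by decide +kernel
theorem m1 : appW LyM1.nets (ex qs [4, 4, 0, 0, 1]) (2 ^ 27) = 2 ^ 8 := by decide +kernel
theorem m2 : appW LyM1.nets (ex qs [0, 4, 0, 0, 0]) (2 ^ 9) = 2 ^ 8 := by decide +kernel
theorem kf : fixErr LyM1.nets (qs ++ [[1, 1]]) [4, 3, 2, 1, 0] = 0 := by decide +kernel
theorem ob : H58.bfs LyM1.nets [[3]] [0, 0, 0, 0] (2 ^ 1) = 62 := by decide +kernel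
theorem ot : H58.bfs LyM1.nets [tau] [0, 0, 0] (2 ^ 2) = 60 := by decide +kernel
theorem ow : ∀ i ∈ [3, 4, 5], ∀ j ∈ [3, 4, 5], i = j ∨ ∃ w ∈ w0 :: bad.map Prod.fst,
    [1, 0, 2, i, j].map (fun p => appW LyM1.nets w (2 ^ p)) = [2 ^ 0, 2 ^ 1, 2 ^ 2, 2 ^ 3, 2 ^ 4] := by decide +kernel
theorem oz : appW LyM1.nets [9] (2 ^ 1) = 2 ^ 0 := by decide +kernel
noncomputable def ml0 : List (List ℕ × ℕ) :=
  (List.range 12).flatMap fun t => [([2, 5, 1], pat 3906 12 t), ([5], pat 3906 12 t)]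
theorem mv0 : Nat.land full0 (Nat.lor (moved LyM0.nets ml0) (Nat.pow 2 0)) = full0 := by decide +kernel
def fullQ : ℕ := Nat.shiftLeft (Nat.pred (Nat.pow 2 3125)) 8
noncomputable def ml1 : List (List ℕ × ℕ) := (List.range 12).map fun t => ([1, 1], pat 3133 12 t)
theorem kpQ : keepErr LyM1.nets (g1.map fun x => [x]) fullQ = 0 := by decide +kernel
theorem mf1 : fixErr LyM1.nets (ml1.map Prod.fst) [8] = 0 := by decide +kernel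
theorem mv1 : Nat.land fullQ (Nat.lor (moved LyM1.nets ml1) (Nat.pow 2 8)) = fullQ := by decide +kernel
theorem f1 : fixErr LyM0.nets (stabWs FT iv s0_1) [0] = 0 := by decide +kernel

end Cfsg.Agent.H55.OutLy
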