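/-
Data for the outer automorphism group of the Harada–Norton group: the centraliser of an element of order eleven.
-/
import Cfsg.Agent.H55.Dcs
import Cfsg.Agent.HN.Cent

set_option autoImplicit false
set_option maxRecDepth 100000
set_option exponentiation.threshold 400000

namespace Cfsg.Agent.H55.OutHN

open Cfsg.Agent.H58 Cfsg.Agent.H17 HnP HnF HnU

def sw : List ℕ := [12, 5, 13, 5, 8]
def rep (n : ℕ) : List ℕ := (List.replicate n sw).flatten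
def I : ℕ := nat_lit 0x8002000000c10000000000198000a800001980041002c05c80009000030e02280b0435be
def ts : List (List ℕ × ℕ × ℕ × ℕ × ℕ × ℕ) := [([5], 1, 2, 5, 8, 4),
  ([5, 4], 3, 1, 4, 3, 4),
  ([5, 3], 2, 1, 2, 3, 4),
  ([5, 15], 27, 1, 3, 4, 8),
  ([5, 4, 4], 8, 1, 2, 3, 4),
  ([5, 4, 5], 9, 1, 4, 3, 4),
  ([5, 4, 9], 246, 1, 6, 4, 3),
  ([5, 3, 9], 76, 1, 2, 3, 4),
  ([5, 3, 8], 144, 1, 4, 3, 4),
  ([5, 13, 5], 17, 1, 2, 3, 4),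
  ([5, 13, 13], 18, 1, 2, 3, 4),
  ([5, 13, 15], 12, 1, 2, 3, 4),
  ([5, 12, 5], 11, 1, 5, 4, 8),
  ([5, 15, 4], 57, 1, 3, 4, 3),
  ([5, 15, 5], 58, 1, 4, 3, 4),
  ([5, 15, 8], 192, 1, 4, 3, 4),
  ([5, 4, 4, 5], 19, 1, 3, 4, 8),
  ([5, 4, 4, 12], 25, 1, 2, 3, 4),
  ([5, 4, 5, 3], 20, 1, 2, 3, 4),
  ([5, 4, 9, 15], 173, 1, 2, 3, 4),
  ([5, 3, 3, 5], 14, 1, 2, 3, 4),
  ([5, 3, 3, 9], 111, 1, 6, 4, 3),
  ([5, 3, 5, 9], 36, 1, 2, 3, 4),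
  ([5, 13, 15, 5], 26, 1, 2, 3, 4),
  ([5, 12, 5, 15], 134, 1, 4, 3, 8),
  ([5, 12, 8, 13], 102, 1, 2, 3, 4),
  ([5, 15, 4, 5], 114, 1, 3, 4, 3),
  ([5, 4, 4, 5, 3], 39, 1, 2, 3, 4),
  ([5, 4, 4, 5, 8], 55, 1, 2, 3, 4),
  ([5, 4, 5, 9, 13], 185, 1, 6, 4, 3),
  ([5, 3, 5, 4, 15], 69, 1, 2, 3, 4)]

noncomputable def tOK (e : List ℕ × ℕ × ℕ × ℕ × ℕ × ℕ) : Bool :=
  band (Nat.beq (appW HnM0.nets e.1 (Nat.pow 2 0)) (Nat.pow 2 e.2.1))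
    (band (Nat.beq (cntErr 9 e.2.2.2.2.1 (capW HnM0.nets [rep e.2.2.1, rep e.2.2.2.1] I)) 0)
    (band (Nat.beq (frcN (fun R => cntErr 9 e.2.2.2.2.2 (capW HnM0.nets [rep e.2.2.1, rep e.2.2.2.1] R))
      (appW HnM0.nets e.1 I)) 0) (!Nat.beq e.2.2.2.2.1 e.2.2.2.2.2)))

theorem ts_ok : allA ts tOK = true := by decide +kernel
theorem keepI : keepErr HnM0.nets [[1], [3]] I = 0 := by decide +kernel
theorem cov : H58.bfs HnM0.nets [sw] (List.replicate 10 0) (linkM ((0, 0) :: ts.map fun e => (0, e.2.1))) = full0 := by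
  decide +kernel
theorem af0 : fixErr HnM0.nets [[3], [5]] [] = 0 := by decide +kernel
theorem ao0 : orbErr HnM0.nets [[3], [5]] [1, 0, 0, 1, 0, 0, 1, 0, 1, 0, 1, 0, 1, 0, 1, 0, 1, 0, 0, 1, 0, 1, 0] 0 9 352 = 0 := by decide +kernel
theorem af1 : fixErr HnM0.nets [[8], [14]] [0] = 0 := by decide +kernel
theorem ao1 : orbErr HnM0.nets [[8], [14]] [0, 1, 0, 0, 1, 0, 0, 1, 0, 0, 1, 0, 0, 0, 0, 1] 16 9 175 = 0 := by decide +kernel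
theorem af2 : fixErr HnM0.nets [[5, 1, 5], [9, 15, 5, 1, 3, 9, 4, 9, 4, 5, 14]] [16, 0] = 0 := by decide +kernel
theorem ao2 : orbErr HnM0.nets [[5, 1, 5], [9, 15, 5, 1, 3, 9, 4, 9, 4, 5, 14]] [0, 1, 0, 1, 0, 1, 0, 1, 1, 0, 1] 67 9 72 = 0 := by decide +kernel
theorem af3 : fixErr HnM0.nets [[15, 9, 5, 4, 13, 13, 9, 13, 9, 3, 5, 14], [5, 2, 15, 8, 15, 12, 3, 14, 4, 13, 3, 12, 5]] [67, 16, 0] = 0 := by decide +kernel
theorem ao3 : orbErr HnM0.nets [[15, 9, 5, 4, 13, 13, 9, 13, 9, 3, 5, 14], [5, 2, 15, 8, 15, 12, 3, 14, 4, 13, 3, 12, 5]] [0, 1, 0, 1, 0, 1] 85 9 20 = 0 := by decide +kernel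

theorem cf : fixErr HnM0.nets [[10]] [85, 67, 16, 0] = 0 := by decide +kernel
theorem p1 : appW HnM0.nets (rep 1) (2 ^ 16) = 2 ^ 0 := by decide +kernel
theorem p2 : appW HnM0.nets (rep 2) (2 ^ 67) = 2 ^ 0 := by decide +kernel
theorem p3 : appW HnM0.nets (rep 3) (2 ^ 85) = 2 ^ 0 := by decide +kernel
noncomputable def ml : List (List ℕ × ℕ) :=
  (List.range 9).flatMap fun t => [([3], pat 352 9 t), ([1, 3, 2], pat 352 9 t)]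
theorem mv : Nat.land full0 (Nat.lor (moved HnM0.nets ml) (Nat.pow 2 0)) = full0 := by decide +kernel
theorem f1 : fixErr HnM0.nets (stabWs FT iv s0_1) [0] = 0 := by decide +kernel
theorem n0 : neW HnR.E HnR.mats 1 [5, 5, 5] [] = true := by decide +kernel
theorem n2 : neW HnR.E HnR.mats 1 [5, 6, 6, 5, 6, 6, 5, 6, 6] [] = true := by decide +kernel
theorem n3 : neW HnR.E HnR.mats 1 [5, 6, 6, 6, 5, 6, 6, 6, 5, 6, 6, 6] [] = true := by decide +kernel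
def qw : List ℕ := [5, 1, 1, 6, 6, 5, 1, 1, 6, 6, 5, 1, 1, 6, 6]
theorem q0 : meqAt HnR.E 133 HnR.mats [(qw, [])] 0 = true := by decide +kernel

end Cfsg.Agent.H55.OutHN
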