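/- data for the outer automorphism certificate (generated) -/
import Cfsg.Agent.H55.OutK

set_option autoImplicit false
set_option maxRecDepth 100000

namespace Cfsg.Agent.H55.OutM22

open Cfsg.Agent.H14 Cfsg.Agent.H55

def T0 : ℕ := nat_lit 0x2833b60959432608caa91e08b913
def T1 : ℕ := nat_lit 0xf50307128a4b7a2019a5c6a29a4
def T2 : ℕ := nat_lit 0x1453804e0acd4620698448f6ca75
def T3 : ℕ := nat_lit 0xc088c72406b7550a9b6854c5f2
def T4 : ℕ := nat_lit 0xc4ad2423b16d82003545d34942f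
def T5 : ℕ := nat_lit 0x272244cb0158e69c6a7d45444029
def T6 : ℕ := nat_lit 0x546a8255a5e39c9d53a01089984
def T7 : ℕ := nat_lit 0x1145a8646a6617c9c638a0065625
def T10 : ℕ := nat_lit 0x2b23d1c4645af4a16a998b018801
def T12 : ℕ := nat_lit 0x2aa4b561238d2401e22b0f3a4603
def T13 : ℕ := nat_lit 0x2a3230414ba468d26b2b4ef0220a
def T14 : ℕ := nat_lit 0x1a231e117a6a4595920068e9a868
def T15 : ℕ := nat_lit 0x1a51a211792a9589c094d4c0d0c7
def T16 : ℕ := nat_lit 0x1a60ca8458cf02a58043a6a889f5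
def T17 : ℕ := nat_lit 0x112c86c09aa9791476d17070a68
def T18 : ℕ := nat_lit 0x21443ea70a9c4299691c993045a2
def T19 : ℕ := nat_lit 0x23421855934254b9138296c381e3
def T20 : ℕ := nat_lit 0x2968233810d51bd7490988728e5
def T21 : ℕ := nat_lit 0x18881e2f50e6548a840b40e59ab2
def T22 : ℕ := nat_lit 0x149b8750a1f1640c56a642590ea
def T23 : ℕ := nat_lit 0x2149958a6c8eb180ce0a502891f5
def T24 : ℕ := nat_lit 0x52394646256a8c1af98288754c1
def T25 : ℕ := nat_lit 0x453d16a40d2f6b1c4986508d406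
def T26 : ℕ := nat_lit 0x272034e959861aaa28232902b84f
def T27 : ℕ := nat_lit 0x165ad12400a467aa088b86768593
def T28 : ℕ := nat_lit 0x5424a0c43a71aa4e35142d7acc0
def T29 : ℕ := nat_lit 0x1746c9911b89011d4f484d3454a0
def T30 : ℕ := nat_lit 0x28b3a661539a8a94c38c9f060880
def T31 : ℕ := nat_lit 0x175898e42b9a3a3e4c9a54140a00
def T32 : ℕ := nat_lit 0x10d305ec5d5c33d149990512ca00
def T33 : ℕ := nat_lit 0x1ca388818b6907a5155cc6661640
def T34 : ℕ := nat_lit 0x1a43556e18a540a9e83966c4c220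
def T35 : ℕ := nat_lit 0x24c2b4224c2a48a8683ccd47b960
def T36 : ℕ := nat_lit 0x827b928884f382983351722b6a0
def T37 : ℕ := nat_lit 0x26611eb9c8492aa3069c75451c0
def T38 : ℕ := nat_lit 0x12418a2673ca85aaac3c1b49c820
def T40 : ℕ := nat_lit 0x1133422c6b8b20a8835d1e2aa4e0
def T41 : ℕ := nat_lit 0x66a32322b9f03a8550cda941160
def T42 : ℕ := nat_lit 0x2b22be26a21823aa030a49373560
def T43 : ℕ := nat_lit 0x2af2522990c4d0a8ce5c265430e0
def T44 : ℕ := nat_lit 0xa698e2d651090a9f05b895148e0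
def T45 : ℕ := nat_lit 0x8e98a2849a0f3a98d0d2a590d60
def T46 : ℕ := nat_lit 0x2558cc8e42c502a4e01d1a67b02a
def T47 : ℕ := nat_lit 0x2869566c1c0a27014f491713b428
def t0 : TT ℕ := (.node (.node (.leaf T0 T1) (.leaf T1 T0)) (.node (.leaf T2 T3) (.leaf T3 T2)))
def t0x : TT ℕ := (.node t0 (.node (.leaf T4 T5) (.leaf T6 T7)))
def t2 : TT ℕ := (.node (.leaf T10 T10) (.node (.leaf T4 T5) (.leaf T5 T4)))
def t1 : TT ℕ := (.node (.node (.node (.leaf T12 T13) (.leaf T14 T15)) (.node (.leaf T16 T17) (.leaf T18 T19))) (.node (.node (.leaf T20 T21) (.leaf T22 T23)) (.node (.leaf T24 T25) (.leaf T26 T27))))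
def t1i : TT ℕ := (.node (.node (.node (.leaf T13 T12) (.leaf T15 T14)) (.node (.leaf T17 T16) (.leaf T19 T18))) (.node (.node (.leaf T21 T20) (.leaf T23 T22)) (.node (.leaf T25 T24) (.leaf T27 T26))))
def s0 : TT ℕ := (.node t1 t1i)
def s1 : TT ℕ := (.node (.node (.leaf T28 T29) (.node (.leaf T29 T28) (.leaf T30 T31))) (.node (.leaf T31 T30) (.node (.leaf T32 T33) (.leaf T33 T32))))
def s2 : TT ℕ := (.node (.node (.leaf T34 T35) (.leaf T35 T34)) (.node (.leaf T36 T37) (.leaf T37 T36)))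
def s3 : TT ℕ := (.node (.node (.leaf T38 T38) (.leaf T40 T41)) (.node (.leaf T41 T40) (.node (.leaf T42 T43) (.leaf T43 T42))))
def s4 : TT ℕ := (.node (.leaf T44 T45) (.leaf T45 T44))
def sx : TT ℕ := (.node (.leaf T4 T5) (.leaf T46 T47))
def tt : TT ℕ := (.node (.node s3 s4) (.node (.node sx s0) (.node s1 s2)))
def bs : List ℕ := [nat_lit 0, nat_lit 10, nat_lit 17, nat_lit 19, nat_lit 18]
def gL0 : Lv := ⟨nat_lit 0, nat_lit 0x3fffff, nat_lit 22⟩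
def gC0 : LvC := ⟨gL0, [nat_lit 133, nat_lit 197, nat_lit 165, nat_lit 229, nat_lit 149, nat_lit 213, nat_lit 181, nat_lit 245], [nat_lit 0x2a3299404b53a8a0d02351a0c86230038180a04018080200]⟩
def gL1 : Lv := ⟨nat_lit 10, nat_lit 0x3ffffe, nat_lit 21⟩
def gC1 : LvC := ⟨gL1, [nat_lit 35, nat_lit 115, nat_lit 91], [nat_lit 0x140401a4b078048c461391c6854129144a0914828942a0]⟩
def gL2 : Lv := ⟨nat_lit 17, nat_lit 0x3ffbfe, nat_lit 20⟩
def gC2 : LvC := ⟨gL2, [nat_lit 39, nat_lit 47], [nat_lit 0xb45a13018b82a35060b01e10180045229058ac22310]⟩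
def gL3 : Lv := ⟨nat_lit 19, nat_lit 0x3df37c, nat_lit 16⟩
def gC3 : LvC := ⟨gL3, [nat_lit 16, nat_lit 24, nat_lit 44], [nat_lit 0x9068501a8948a25031184c03218cca6330]⟩
def gL4 : Lv := ⟨nat_lit 18, nat_lit 262156, nat_lit 3⟩
def gC4 : LvC := ⟨gL4, [nat_lit 10], [nat_lit 287008]⟩
def gCs : List LvC := [gC0, gC1, gC2, gC3, gC4]
def cL0 : Lv := ⟨nat_lit 2, nat_lit 0x20206c, nat_lit 6⟩
def cC0 : LvC := ⟨cL0, [nat_lit 0x2f468f37a6, nat_lit 0x2946f69dfe74], [nat_lit 0x261685404220]⟩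
def cL1 : Lv := ⟨nat_lit 3, nat_lit 0x200068, nat_lit 4⟩
def cC1 : LvC := ⟨cL1, [nat_lit 0x2d7b5b674, nat_lit 0x1ec77646], [nat_lit 0xd446230]⟩
def cL2 : Lv := ⟨nat_lit 0, nat_lit 0x1fdf93, nat_lit 16⟩
def cC2 : LvC := ⟨cL2, [nat_lit 0x2742f699def040, nat_lit 0x10a1533befc, nat_lit 0xa50ab4eef3a6, nat_lit 0x237bcde7066], [nat_lit 0x84d272371b8a2743a12cd64b1018080200]⟩
def cCs : List LvC := [cC0, cC1, cC2]
def pcg : List ℕ := [nat_lit 0x2742f699def040, nat_lit 0x3f5bceff3a02, nat_lit 0x29428f34de7606, nat_lit 0x10a1533befc, nat_lit 0x2b468f34eefba, nat_lit 0x1eade678e2, nat_lit 0x5ab798def38202]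
def pcc : List (ℕ × List ℕ) := [(nat_lit 0, [nat_lit 4294, nat_lit 8518, nat_lit 3, nat_lit 261, nat_lit 5, nat_lit 6]), (nat_lit 2, [nat_lit 274693, nat_lit 2, nat_lit 196, nat_lit 261, nat_lit 5]), (nat_lit 4, [nat_lit 67, nat_lit 132, nat_lit 3, nat_lit 4]), (nat_lit 0, [nat_lit 67, nat_lit 2, nat_lit 3]), (nat_lit 2, [nat_lit 1, nat_lit 2]), (nat_lit 0, [nat_lit 1]), (nat_lit 0, [])]
def tls : List TL := [⟨gL0, true, nat_lit 0, [(nat_lit 0x233beec4, nat_lit 536837)]⟩, ⟨gL1, false, nat_lit 0, [(nat_lit 0x46ad3ba2, nat_lit 545159)]⟩, ⟨gL2, false, nat_lit 0, [(nat_lit 0xa50ade63040, nat_lit 803142)]⟩, ⟨gL3, false, nat_lit 0, [(nat_lit 0x3f5bceff3a02, nat_lit 2)]⟩, ⟨gL4, false, nat_lit 0, [(nat_lit 0x4ee69dde7622, nat_lit 270663)]⟩]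
def ct0 : CT := (.cons (nat_lit 0) (nat_lit 1) (.cons (nat_lit 10) (nat_lit 1) (.cons (nat_lit 17) (nat_lit 1) (.cons (nat_lit 19) (nat_lit 1) (.cons (nat_lit 18) (nat_lit 1) (.leaf (nat_lit 0) (nat_lit 0) (nat_lit 0)) .nil) .nil) .nil) .nil) (.cons (nat_lit 1) (nat_lit 181) (.cons (nat_lit 8) (nat_lit 0x16ade63) (.cons (nat_lit 14) (nat_lit 0xb56f31bde7) (.cons (nat_lit 7) (nat_lit 0xb56f31bde7040) (.cons (nat_lit 20) (nat_lit 0x5ab798def38202) (.leaf (nat_lit 3) (nat_lit 1) (nat_lit 0)) .nil) .nil) .nil) .nil) .nil))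
def exts : List ℕ := []
def ks : List KE := [⟨nat_lit 1, nat_lit 17, [(nat_lit 1, nat_lit 1, nat_lit 0), (nat_lit 895, nat_lit 0x733f9e5, nat_lit 1)]⟩, ⟨nat_lit 3, nat_lit 25, []⟩]
def tsts : List (ℕ × ℕ × ℕ) := [(nat_lit 887, nat_lit 750, nat_lit 3), (nat_lit 218967, nat_lit 0x2aeaeaea, nat_lit 6), (nat_lit 882135, nat_lit 0xaebaeba, nat_lit 15), (nat_lit 0xdd5d7757, nat_lit 0xaeaeebabba, nat_lit 1)]
def Tp : ℕ := nat_lit 0xa89ca2e4c0cc5a9f40b6a410ce0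
def Tp' : ℕ := nat_lit 0xa89ca2e4c0cc5a9f40b6a410ce0
def qs : List ℕ := [nat_lit 1, nat_lit 20, nat_lit 10, nat_lit 18, nat_lit 0]
def ld : ℕ := nat_lit 21
def cv : ℕ := nat_lit 0x3ffffd

end Cfsg.Agent.H55.OutM22
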