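/- kernel checks (generated) -/
import Cfsg.Agent.H55.OutM22D

set_option autoImplicit false
set_option maxRecDepth 100000

namespace Cfsg.Agent.H55.OutM22

open Cfsg.Agent.H14 Cfsg.Agent.H55

theorem cl2_0 : leafOK (lk1 (nat_lit 5) (nat_lit 31)) t0 (nat_lit 22) (nat_lit 0) (nat_lit 22) (nat_lit 0x14ecc411) T4 T5 = true := by
  decide +kernel

theorem cl3_0 : leafOK (lk1 (nat_lit 5) (nat_lit 31)) t0 (nat_lit 22) (nat_lit 0) (nat_lit 22) (nat_lit 0x19bfc191) T6 T7 = true := by
  decide +kernel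

theorem cl4_0 : leafOK (lk1 (nat_lit 5) (nat_lit 31)) t0x (nat_lit 22) (nat_lit 0) (nat_lit 22) (nat_lit 5) T4 T5 = true := by
  decide +kernel

theorem cl5_0 : leafOK (lk1 (nat_lit 5) (nat_lit 31)) t0x (nat_lit 22) (nat_lit 0) (nat_lit 22) (nat_lit 0x70d87c4a2) T10 T10 = true := by
  decide +kernel

theorem cl6_0 : leafOK (lk1 (nat_lit 5) (nat_lit 31)) t2 (nat_lit 22) (nat_lit 0) (nat_lit 22) (nat_lit 386223) T12 T13 = true := by
  decide +kernel

theorem cl7_0 : leafOK (lk1 (nat_lit 5) (nat_lit 31)) t2 (nat_lit 22) (nat_lit 0) (nat_lit 22) (nat_lit 45643) T14 T15 = true := by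
  decide +kernel

theorem cl8_0 : leafOK (lk1 (nat_lit 5) (nat_lit 31)) t2 (nat_lit 22) (nat_lit 0) (nat_lit 22) (nat_lit 0x257b794a5) T16 T17 = true := by
  decide +kernel

theorem cl9_0 : leafOK (lk1 (nat_lit 5) (nat_lit 31)) t2 (nat_lit 22) (nat_lit 0) (nat_lit 22) (nat_lit 0x95bcaf) T18 T19 = true := by
  decide +kernel

theorem cl10_0 : leafOK (lk1 (nat_lit 5) (nat_lit 31)) t2 (nat_lit 22) (nat_lit 0) (nat_lit 22) (nat_lit 0x497bd9) T20 T21 = true := by
  decide +kernel

theorem cl11_0 : leafOK (lk1 (nat_lit 5) (nat_lit 31)) t2 (nat_lit 22) (nat_lit 0) (nat_lit 22) (nat_lit 18799) T22 T23 = true := by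
  decide +kernel

theorem cl12_0 : leafOK (lk1 (nat_lit 5) (nat_lit 31)) t2 (nat_lit 22) (nat_lit 0) (nat_lit 22) (nat_lit 5833) T24 T25 = true := by
  decide +kernel

theorem cl13_0 : leafOK (lk1 (nat_lit 5) (nat_lit 31)) t2 (nat_lit 22) (nat_lit 0) (nat_lit 22) (nat_lit 0x94a5797b) T26 T27 = true := by
  decide +kernel

theorem cl14_0 : leafOK (lk1 (nat_lit 5) (nat_lit 31)) s0 (nat_lit 22) (nat_lit 0) (nat_lit 22) (nat_lit 0x112133c8) T28 T29 = true := by
  decide +kernel

theorem cl15_0 : leafOK (lk1 (nat_lit 5) (nat_lit 31)) s0 (nat_lit 22) (nat_lit 0) (nat_lit 22) (nat_lit 117325) T30 T31 = true := by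
  decide +kernel

theorem cl16_0 : leafOK (lk1 (nat_lit 5) (nat_lit 31)) s0 (nat_lit 22) (nat_lit 0) (nat_lit 22) (nat_lit 0x1048f7f22) T32 T33 = true := by
  decide +kernel

theorem cl17_0 : leafOK (lk1 (nat_lit 5) (nat_lit 31)) s1 (nat_lit 22) (nat_lit 0) (nat_lit 22) (nat_lit 281809) T34 T35 = true := by
  decide +kernel

theorem cl18_0 : leafOK (lk1 (nat_lit 5) (nat_lit 31)) s1 (nat_lit 22) (nat_lit 0) (nat_lit 22) (nat_lit 0x3bf5d3) T36 T37 = true := by
  decide +kernel

theorem cl19_0 : leafOK (lk1 (nat_lit 5) (nat_lit 31)) s2 (nat_lit 22) (nat_lit 0) (nat_lit 22) (nat_lit 446148) T38 T38 = true := by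
  decide +kernel

theorem cl20_0 : leafOK (lk1 (nat_lit 5) (nat_lit 31)) s2 (nat_lit 22) (nat_lit 0) (nat_lit 22) (nat_lit 102863) T40 T41 = true := by
  decide +kernel

theorem cl21_0 : leafOK (lk1 (nat_lit 5) (nat_lit 31)) s2 (nat_lit 22) (nat_lit 0) (nat_lit 22) (nat_lit 0x191e41) T42 T43 = true := by
  decide +kernel

theorem cl22_0 : leafOK (lk1 (nat_lit 5) (nat_lit 31)) s3 (nat_lit 22) (nat_lit 0) (nat_lit 22) (nat_lit 19420) T44 T45 = true := by
  decide +kernel

theorem cl23_0 : leafOK (lk1 (nat_lit 5) (nat_lit 31)) t2 (nat_lit 22) (nat_lit 0) (nat_lit 22) (nat_lit 85) T46 T47 = true := by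
  decide +kernel

theorem cg : preOK (lk1 (nat_lit 5) (nat_lit 31)) tt (nat_lit 22) (nat_lit 512) (fun _ => true) gCs [] = true := by
  decide +kernel

theorem cc : preOK (lk1 (nat_lit 5) (nat_lit 31)) tt (nat_lit 22) (nat_lit 512) (fun f => agree bs (fun i => f (lk1 (nat_lit 5) (nat_lit 31) T10 i)) (fun i => lk1 (nat_lit 5) (nat_lit 31) T10 (f i))) cCs [] = true := by
  decide +kernel

theorem cpc : mkL (lk1 (nat_lit 5) (nat_lit 31)) tt pcg (fun fs => pcOK bs (nat_lit 2) fs pcc) = true := by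
  decide +kernel

theorem ctl : mkL (lk1 (nat_lit 5) (nat_lit 31)) tt pcg (fun fs => tlOK (lk1 (nat_lit 5) (nat_lit 31)) tt bs fs tls) = true := by
  decide +kernel

theorem ct1 : mkL (lk1 (nat_lit 5) (nat_lit 31)) tt pcg (fun fs => H55.t1 (lk1 (nat_lit 5) (nat_lit 31)) tt (nat_lit 22) (leafO (lk1 (nat_lit 5) (nat_lit 31)) tt (nat_lit 22) (nat_lit 2) bs fs (lk1 (nat_lit 5) (nat_lit 31) T10) exts) tls ct0 (fun i => i) (fun i => i) []) = true := by
  decide +kernel

theorem cx : xOK (lk1 (nat_lit 5) (nat_lit 31)) tt (nat_lit 22) bs (lk1 (nat_lit 5) (nat_lit 31) T4) (nat_lit 7) (nat_lit 0) (nat_lit 0xa0bbce3) (nat_lit 2) ks = true := by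
  decide +kernel

theorem cd : (agree bs (iterF (lk1 (nat_lit 5) (nat_lit 31) T10) (nat_lit 2)) (fun i => i) && (Nat.blt (nat_lit 0) (nat_lit 22) && !Nat.beq (lk1 (nat_lit 5) (nat_lit 31) T10 (nat_lit 0)) (nat_lit 0))) = true := by
  decide +kernel

theorem cts : testsOK (nat_lit 22) bs (lk1 (nat_lit 5) (nat_lit 31) T4) (lk1 (nat_lit 5) (nat_lit 31) T5) (lk1 (nat_lit 5) (nat_lit 31) T10) tsts = true := by
  decide +kernel

theorem cp0 : piOK (nat_lit 22) (nat_lit 0) (nat_lit 22) (lk1 (nat_lit 5) (nat_lit 31) Tp) (lk1 (nat_lit 5) (nat_lit 31) Tp') (lk1 (nat_lit 5) (nat_lit 31) T4) (lk1 (nat_lit 5) (nat_lit 31) T10) (run (lk1 (nat_lit 5) (nat_lit 31)) tt (nat_lit 0x14a37b4ff762)) (run (lk1 (nat_lit 5) (nat_lit 31)) tt (nat_lit 0x19ade77646)) = true := by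
  decide +kernel

theorem cfix : fixOK (lk1 (nat_lit 5) (nat_lit 31)) tt (nat_lit 22) (nat_lit 0) [nat_lit 35, nat_lit 115, nat_lit 91] = true := by
  decide +kernel

theorem cnin : notIn (lk1 (nat_lit 5) (nat_lit 31) Tp) gL0.D (nat_lit 3) (gCs.map LvC.L) = true := by
  decide +kernel

theorem cgd : goodsOK (lk1 (nat_lit 5) (nat_lit 31)) tt t1 bs (lk1 (nat_lit 5) (nat_lit 31) T4) (lk1 (nat_lit 5) (nat_lit 31) T10) (run (lk1 (nat_lit 5) (nat_lit 31)) tt (nat_lit 0x14a37b4ff762)) (run (lk1 (nat_lit 5) (nat_lit 31)) tt (nat_lit 0x19ade77646)) ks = true := by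
  decide +kernel

theorem cld : ldOK (lk1 (nat_lit 5) (nat_lit 31) T4) (nat_lit 22) qs (nat_lit 1) ld cv (nat_lit 7) = true := by
  decide +kernel

theorem cs0 : clsO (lk1 (nat_lit 5) (nat_lit 31)) tt t1 (lk1 (nat_lit 5) (nat_lit 31) T10) (nat_lit 22) qs (nat_lit 1) ld cv (nat_lit 7) (nat_lit 65536) ks tsts (nat_lit 0x9cd709) (nat_lit 1155) [nat_lit 0x111f3029603030386150510e80300124802aa1994113e19551506118a1146000e1d8a1b88163c14c503ea1a6203ef10e415bc116e1153110c007f106018f102391001141710ad030c03f289b503b511da1093034202011c0c19a519a1004402f9135a118000651572881b02d9025803ad8ded10a1024d035a1d73103303461dec03770314116202bc104511d01018102918ac02a31946189b81191565101103c00351023f190402ae0209171d0231037d025618661094144b031c1154021e1cec02fd02a010d1106b, nat_lit 0x1000c11d6104b1f2c1811006c1012022b023a81f41916158d114502c118da006d1158029911511d1703291527114c0390007711d51a2a183915181f50029a038303e2190103b1007d10d9113d196a034514a303d210a902a40207102b03f81593149e00471432028c1d8e1070192b0220103e1da31138107403241ab21436021c000110bd02e3183200631a190217813f188e101f028611a18cdc15c503c80055107b1bfb0246189d03cb024b182610d40252004a117802b80203034f007c15921590190202e71d24,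 nat_lit 0x1036703ab030802141964141b108e18bf1121187315c2005918c70061105c026814e418e385521157102114200334120a0243107a034b036f114a030d0318025015a8119603be103511b3029803c919a91039006b1076199e024e02f6143f18f51566032e18e90009032d1ff60365007a006e182318010315180d105303821f38004119651194135d004f038a112e145b1ab718301b3c11bd1173819f03661cd8116c151b18d303d4023002841d58106714e21f1b0389005b1cb310fd18ae037f02f11f02122903fc, nat_lit 0x11468021b14d7148618a30228036c14f31578144489841182130500581856199d03761c1810d812201817006210bc02eb1057158b027f1026160e10ae02ad0274027c11b6032a1a8f118e1040030e19a217dd1dc51461198a02a203a51dd51eab02b1035718f0038b1171026b1c82025c11601cde037510281210005218ef1022032811b210fe153a18a11896184011d403f7157d18ca1c1c1a1d19121818022302a18189103a03a711321063105603111c64036103f310361003110400731961110002101dff1118, nat_lit 0x103d01dc003360249007003a01933126911a203cf03a9024703040330185d0316184510f419bc1d3e004c03011895187f1041189c108a03bd12fa1baa021a024002fc0378180e]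 (nat_lit 0) (nat_lit 0) = true := by
  decide +kernel


end Cfsg.Agent.H55.OutM22
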