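/- data for the outer automorphism certificate (generated) -/
import Cfsg.Agent.H55.OutK

set_option autoImplicit false
set_option maxRecDepth 100000

namespace Cfsg.Agent.H55.OutM23

open Cfsg.Agent.H14 Cfsg.Agent.H55

def T0 : ℕ := nat_lit 0x2d5a4e5183dcd62d4941cc520c41
def T1 : ℕ := nat_lit 0x56939460f7358b525073148310416
def T2 : ℕ := nat_lit 0x1672c4d663e686bab04d08a08e42
def T3 : ℕ := nat_lit 0x4126686487296fa90eca466510076
def T4 : ℕ := nat_lit 0x454292064015e682ead3a5819d9d4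
def T5 : ℕ := nat_lit 0x9201cecb68505554d23b1d08d08f
def T6 : ℕ := nat_lit 0x450c011356ae7430ec1138b27c0ea
def T7 : ℕ := nat_lit 0x260c692c2199f4702350acb251d13
def T8 : ℕ := nat_lit 0x4e116be4e11a95091603a92540d96
def T9 : ℕ := nat_lit 0x18db469594261498a33b88a13d68
def T10 : ℕ := nat_lit 0x4eb1b4a90338a2591281bdaa3b001
def T12 : ℕ := nat_lit 0x4d038a9b41041629dcb790c984995
def T13 : ℕ := nat_lit 0x3010b0a633a6214489551566a3dcd
def T14 : ℕ := nat_lit 0x51301aac535323b88228e347aed0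
def T15 : ℕ := nat_lit 0x624a30a01a9d013db55c8e9322d3
def T16 : ℕ := nat_lit 0x59c344dac482ab2284f9061429e26
def T17 : ℕ := nat_lit 0x59a491c2545630629f31006ba24ce
def T18 : ℕ := nat_lit 0xde5ab22808167491b095a82519d3
def T19 : ℕ := nat_lit 0x1a6501e28a853268d7060a8ab11ee
def T20 : ℕ := nat_lit 0x1c83a696ac4435a8a693d819920d
def T21 : ℕ := nat_lit 0x41f119dc1354055aa549a12263496
def T22 : ℕ := nat_lit 0x160933c67258519a280ab1ca5b432
def T23 : ℕ := nat_lit 0x38e958195914461928a84ecf8b428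
def T24 : ℕ := nat_lit 0x1a0d8da4e1ccb55016460534408ef
def T25 : ℕ := nat_lit 0x498474675042874aca30d9a8788ca
def T26 : ℕ := nat_lit 0x28831151601a8763a0f92e214d5b3
def T27 : ℕ := nat_lit 0x404d01ca94282b3587163a55a4c8f
def T28 : ℕ := nat_lit 0x25aba4867405d02cd42312d1655e0
def T29 : ℕ := nat_lit 0x14535488c0b6a3a26cf81d668a1c0
def T30 : ℕ := nat_lit 0x48276b9e8b0d5480984aae71324a0
def T31 : ℕ := nat_lit 0x3cec2d88b8ca6933450a0c2872aa0
def T32 : ℕ := nat_lit 0x11f450868b56696942e61e3059a40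
def T33 : ℕ := nat_lit 0x3dd4684a4aa1671cd90309568c920
def T34 : ℕ := nat_lit 0x3cb4349246ac5689c30aa073531c0
def T35 : ℕ := nat_lit 0x30f424968b05e270e2654eb02b520
def T36 : ℕ := nat_lit 0x25146959619e423066a8ba0faac80
def T37 : ℕ := nat_lit 0x40744b4e521a71122d572e417b140
def T38 : ℕ := nat_lit 0x1234b0ea8609e9939b052e6531c20
def T39 : ℕ := nat_lit 0x4e342aea86a92f31d9010c9693820
def T40 : ℕ := nat_lit 0x20f463a24b2e0d4942253c73a9a40
def T41 : ℕ := nat_lit 0x3c742062d3499371d76a89502a120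
def T42 : ℕ := nat_lit 0x31141ca303596e535e112667292a0
def T43 : ℕ := nat_lit 0x38342ca304b1566acd523c6299d00
def T44 : ℕ := nat_lit 0x1e146aa216584b7a64870ca624ea0
def T45 : ℕ := nat_lit 0x38341263559e6f64948b10a333600
def T46 : ℕ := nat_lit 0x12b4b3a286364b78c41524b339a00
def T47 : ℕ := nat_lit 0x4eb4236215c9cf61cd0188b652500
def T48 : ℕ := nat_lit 0x49345062d5ccef63843818a8256c0
def T49 : ℕ := nat_lit 0x45475a2762a0b7cea4698a342640
def T50 : ℕ := nat_lit 0x265443a275d5af60462340aab4c80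
def T51 : ℕ := nat_lit 0xdd415626649ab792d381ca14a140
def T52 : ℕ := nat_lit 0x35d2a09e61aa306143639169022b3
def T53 : ℕ := nat_lit 0x2033051ac8d6cb2b8823c1467c923
def t0 : TT ℕ := (.node (.node (.leaf T0 T1) (.leaf T1 T0)) (.node (.leaf T2 T3) (.leaf T3 T2)))
def t0x : TT ℕ := (.node t0 (.node (.leaf T4 T5) (.leaf T6 T7)))
def t2 : TT ℕ := (.node (.leaf T10 T10) (.node (.leaf T8 T9) (.leaf T9 T8)))
def t1 : TT ℕ := (.node (.node (.node (.leaf T12 T13) (.leaf T14 T15)) (.node (.leaf T16 T17) (.leaf T18 T19))) (.node (.node (.leaf T20 T21) (.leaf T22 T23)) (.node (.leaf T24 T25) (.leaf T26 T27))))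
def t1i : TT ℕ := (.node (.node (.node (.leaf T13 T12) (.leaf T15 T14)) (.node (.leaf T17 T16) (.leaf T19 T18))) (.node (.node (.leaf T21 T20) (.leaf T23 T22)) (.node (.leaf T25 T24) (.leaf T27 T26))))
def s0 : TT ℕ := (.node t1 t1i)
def s1 : TT ℕ := (.node (.node (.leaf T28 T29) (.node (.leaf T29 T28) (.leaf T30 T31))) (.node (.leaf T31 T30) (.node (.leaf T32 T33) (.leaf T33 T32))))
def s2 : TT ℕ := (.node (.node (.leaf T34 T35) (.node (.leaf T35 T34) (.leaf T36 T37))) (.node (.leaf T37 T36) (.node (.leaf T38 T39) (.leaf T39 T38))))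
def s3 : TT ℕ := (.node (.node (.leaf T40 T41) (.leaf T41 T40)) (.node (.leaf T42 T43) (.leaf T43 T42)))
def s4 : TT ℕ := (.node (.node (.leaf T44 T45) (.node (.leaf T45 T44) (.leaf T46 T47))) (.node (.leaf T47 T46) (.node (.leaf T48 T49) (.leaf T49 T48))))
def s5 : TT ℕ := (.node (.leaf T50 T51) (.leaf T51 T50))
def sx : TT ℕ := (.node (.leaf T8 T9) (.leaf T52 T53))
def tt : TT ℕ := (.node (.node s5 (.node sx s0)) (.node (.node s1 s2) (.node s3 s4)))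
def bs : List ℕ := [nat_lit 0, nat_lit 20, nat_lit 17, nat_lit 5, nat_lit 13, nat_lit 2]
def gL0 : Lv := ⟨nat_lit 0, nat_lit 0x7fffff, nat_lit 23⟩
def gC0 : LvC := ⟨gL0, [nat_lit 134, nat_lit 198, nat_lit 166, nat_lit 230, nat_lit 150, nat_lit 214, nat_lit 182, nat_lit 246], [nat_lit 0x640d668cde6067311860b0480c02af52a80180a04018080200]⟩
def gL1 : Lv := ⟨nat_lit 20, nat_lit 0x7ffffe, nat_lit 22⟩
def gC1 : LvC := ⟨gL1, [nat_lit 33, nat_lit 113, nat_lit 89], [nat_lit 0x280885858552a8981a2d080948a250391c4e0b258ac28340]⟩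
def gL2 : Lv := ⟨nat_lit 17, nat_lit 0x6ffffe, nat_lit 21⟩
def gC2 : LvC := ⟨gL2, [nat_lit 37, nat_lit 117, nat_lit 93], [nat_lit 0x140944a02210b49a33008842a35060b0124914844a2310]⟩
def gL3 : Lv := ⟨nat_lit 5, nat_lit 0x6dfffe, nat_lit 20⟩
def gC3 : LvC := ⟨gL3, [nat_lit 35, nat_lit 43], [nat_lit 0x981601010881c2d168204e27060b02a350980c0a250]⟩
def gL4 : Lv := ⟨nat_lit 13, nat_lit 0x6d67de, nat_lit 16⟩
def gC4 : LvC := ⟨gL4, [nat_lit 39, nat_lit 119, nat_lit 95], [nat_lit 0xd860261304c4e52290c80442110349a2d0]⟩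
def gL5 : Lv := ⟨nat_lit 2, nat_lit 524548, nat_lit 3⟩
def gC5 : LvC := ⟨gL5, [nat_lit 8], [nat_lit 417824]⟩
def gCs : List LvC := [gC0, gC1, gC2, gC3, gC4, gC5]
def cL0 : Lv := ⟨nat_lit 8, nat_lit 0x254b00, nat_lit 7⟩
def cC0 : LvC := ⟨cL0, [nat_lit 0x1fc182c84a51ae737f7], [nat_lit 0x60150702c12080]⟩
def cL1 : Lv := ⟨nat_lit 9, nat_lit 0x254a00, nat_lit 6⟩
def cC1 : LvC := ⟨cL1, [nat_lit 0x19c17551ae73dff, nat_lit 0x5b0ee5216ba31bebc], [nat_lit 0x35090c812290]⟩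
def cL2 : Lv := ⟨nat_lit 11, nat_lit 0x250800, nat_lit 4⟩
def cC2 : LvC := ⟨cL2, [nat_lit 0x5b0e08752cd6f8, nat_lit 0xb6643a97631eff8], [nat_lit 0xc8562b0]⟩
def cL3 : Lv := ⟨nat_lit 0, nat_lit 0x5ab4ff, nat_lit 16⟩
def cC3 : LvC := ⟨cL3, [nat_lit 0x16c382acd6f8, nat_lit 0x8ec5aa8d739bd7, nat_lit 0x16cce38aad1ec63, nat_lit 0x4746c710946bdd7], [nat_lit 0x98d862309849e6d36914ca451018080200]⟩
def cCs : List LvC := [cC0, cC1, cC2, cC3]
def pcg : List ℕ := [nat_lit 0x5f06e710aad58, nat_lit 0x8e8c948d737d7, nat_lit 0xce0855547b18deb8, nat_lit 0x7b06e5215557c, nat_lit 0x3783338e2d576358, nat_lit 0x17c1916946b9ee7, nat_lit 0x1fc383ace6fc]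
def pcc : List (ℕ × List ℕ) := [(nat_lit 6, [nat_lit 274693, nat_lit 536902, nat_lit 198, nat_lit 4, nat_lit 326, nat_lit 6]), (nat_lit 4, [nat_lit 270532, nat_lit 132, nat_lit 12549, nat_lit 4, nat_lit 5]), (nat_lit 68, [nat_lit 1, nat_lit 8388, nat_lit 196, nat_lit 4]), (nat_lit 0, [nat_lit 67, nat_lit 2, nat_lit 3]), (nat_lit 2, [nat_lit 1, nat_lit 2]), (nat_lit 0, [nat_lit 1]), (nat_lit 0, [])]
def tls : List TL := [⟨gL0, true, nat_lit 0, [(nat_lit 0x164259cf7, nat_lit 4229)]⟩, ⟨gL1, false, nat_lit 0, [(nat_lit 0xbe1d8e2eaab18def8, nat_lit 536903)]⟩, ⟨gL2, false, nat_lit 0, [(nat_lit 0x33837290af73c, nat_lit 0x10c4187)]⟩, ⟨gL3, false, nat_lit 0, [(nat_lit 0x5b0ee710b4a3dff, nat_lit 0x20c4146)]⟩, ⟨gL4, false, nat_lit 0, [(nat_lit 0x239252cff, nat_lit 12550)]⟩, ⟨gL5, false, nat_lit 0, [(nat_lit 0x3f83638967b9ee7, nat_lit 133)]⟩]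
def ct0 : CT := (.cons (nat_lit 0) (nat_lit 1) (.cons (nat_lit 20) (nat_lit 1) (.cons (nat_lit 17) (nat_lit 1) (.cons (nat_lit 5) (nat_lit 1) (.cons (nat_lit 13) (nat_lit 1) (.cons (nat_lit 2) (nat_lit 1) (.leaf (nat_lit 0) (nat_lit 0) (nat_lit 0)) .nil) .nil) .nil) .nil) .nil) (.cons (nat_lit 1) (nat_lit 32526) (.cons (nat_lit 17) (nat_lit 0xfe1c1) (.cons (nat_lit 20) (nat_lit 0x3f87075) (.cons (nat_lit 13) (nat_lit 0xfe1c1d673) (.cons (nat_lit 5) (nat_lit 0x3f870759cdf) (.cons (nat_lit 12) (nat_lit 0x1fc383ace6fc) (.leaf (nat_lit 3) (nat_lit 1) (nat_lit 0)) .nil) .nil) .nil) .nil) .nil) (.cons (nat_lit 18) (nat_lit 214) .nil .nil)))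
def exts : List ℕ := []
def ks : List KE := [⟨nat_lit 1, nat_lit 18, [(nat_lit 5177, nat_lit 0x18bbf3d8d6eea14ce, nat_lit 0)]⟩, ⟨nat_lit 2, nat_lit 26, []⟩]
def tsts : List (ℕ × ℕ × ℕ) := [(nat_lit 955, nat_lit 477, nat_lit 8), (nat_lit 0xead5757ab, nat_lit 0x2aeab57abaa, nat_lit 8), (nat_lit 0x357ab57, nat_lit 0x15ead5ead5, nat_lit 22), (nat_lit 14263, nat_lit 126445, nat_lit 19)]
def qs : List ℕ := [nat_lit 7, nat_lit 2, nat_lit 4, nat_lit 16, nat_lit 12, nat_lit 1]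
def ld : ℕ := nat_lit 3
def cv : ℕ := nat_lit 0x7fff7f

end Cfsg.Agent.H55.OutM23
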