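/- data for the outer automorphism certificate (generated) -/
import Cfsg.Agent.H55.OutK

set_option autoImplicit false
set_option maxRecDepth 100000

namespace Cfsg.Agent.H55.OutM24

open Cfsg.Agent.H14 Cfsg.Agent.H55

def T0 : ℕ := nat_lit 0xb82d5a4e5183dcd62d4941cc520c41
def T1 : ℕ := nat_lit 0xbd6939460f7358b525073148310416
def T2 : ℕ := nat_lit 0x5883388a1c8f5140b46cd317aed7
def T4 : ℕ := nat_lit 0xbba8ab116d7c52899d90286a219a40
def T5 : ℕ := nat_lit 0xbccb5585c87da098d1ac508f2190c0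
def T6 : ℕ := nat_lit 0xb36f13bc100984324caca25155a9d2
def T7 : ℕ := nat_lit 0xadc8750290906c8188c59b92b635f1
def T8 : ℕ := nat_lit 0xb8c2c41a47036144b9f68aaa558893
def T9 : ℕ := nat_lit 0xba0ac044ed4a9d41997384881b0aaf
def T10 : ℕ := nat_lit 0x54c4f018304a0f5b44649316dbd0ae
def T11 : ℕ := nat_lit 0x1ad82b1d50a00862ddee6c8284d633
def T12 : ℕ := nat_lit 0xbdaac73ce094db44254b898a118890
def T14 : ℕ := nat_lit 0x922b103ce40985484d4b1a5b7615d6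
def T15 : ℕ := nat_lit 0x202ac55e8b904a3424d68b8503b5f3
def T16 : ℕ := nat_lit 0x54c554264e300ef20e360b165bd1b0
def T17 : ℕ := nat_lit 0x1a282b4520640262de536bc8b554ee
def T18 : ℕ := nat_lit 0xa146221d51749e64daa89860c6dc0b
def T19 : ℕ := nat_lit 0x129373ba056bc6404568932d3ad0c1
def T22 : ℕ := nat_lit 0x94ea773d80bd928a355159a0418825
def T23 : ℕ := nat_lit 0x7baabb5d0594d513a5aca180418830
def T24 : ℕ := nat_lit 0xaded10ad8d22134708b33980f82a43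
def T25 : ℕ := nat_lit 0xb56ec4068322e11909ae3992f02a65
def T26 : ℕ := nat_lit 0x4018ab9c4d1c6c9712b034e4b2be81
def T27 : ℕ := nat_lit 0x9b521315c812e152519791c6a7c416
def T28 : ℕ := nat_lit 0xb91ec854e80ccb40194b1a5b288ace
def T29 : ℕ := nat_lit 0xb864c71073a80b4424d08a9b6389eb
def T30 : ℕ := nat_lit 0x9eb46ca17724a3b185164d4f59100
def T31 : ℕ := nat_lit 0x82eb43491123e67195c1b29a2626e0
def T32 : ℕ := nat_lit 0x7c1948ae6d712c50a2ea126a63c860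
def T33 : ℕ := nat_lit 0x4b4b488a76bbe15920ca1918e09d60
def T34 : ℕ := nat_lit 0x952cf9948b1542850d9731dae84520
def T35 : ℕ := nat_lit 0x455d69dc43a10a982c2c31e5153da0
def T36 : ℕ := nat_lit 0x3a970bd628719249959213436a0de0
def T37 : ℕ := nat_lit 0x992435a2340bcc9ad9b0bb94c11ca0
def T38 : ℕ := nat_lit 0x5b914b9e22b302681523abc8d94d40
def T39 : ℕ := nat_lit 0x9bcf410e2b3588eb853593145441a0
def T40 : ℕ := nat_lit 0x38aa11ae2c2192e9bd12552166dca0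
def T41 : ℕ := nat_lit 0x112a65a2255307091da9bb82f9da80
def T42 : ℕ := nat_lit 0x7ac43aaa29a36c63a1cc814249de40
def T43 : ℕ := nat_lit 0x1366f18627ba5c8b4a0a5b0c4a54a0
def T44 : ℕ := nat_lit 0x5d2c2306329b909bb06d79e04554a0
def T45 : ℕ := nat_lit 0x5d4567c2253b90ab8d8d34c244d240
def T46 : ℕ := nat_lit 0xb88f3916235052e33d6cb368485500
def T47 : ℕ := nat_lit 0xb9c45a4e23530c84bda1aae44859c0
def T48 : ℕ := nat_lit 0x3a8c244a2e835e3b04acba6a49d160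
def T49 : ℕ := nat_lit 0x3aca21ca2f6c1c80d8d3bd52465140
def T50 : ℕ := nat_lit 0x542ec7ca22b06862b8ed5a0644cea0
def T51 : ℕ := nat_lit 0xabc2d14a369a9143dc664b1642c1c0
def T52 : ℕ := nat_lit 0x51aab3ca30185a2a5d259d9047b1c0
def T54 : ℕ := nat_lit 0x14db734a350a20e2bd2c3d8645d140
def T55 : ℕ := nat_lit 0xa1a02b4a2d532a81852e3cd642dde0
def T56 : ℕ := nat_lit 0x7aea60ca30b9da8b0d2c7504451660
def T58 : ℕ := nat_lit 0x439a35ca3538a13629250d2e4359e0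
def T59 : ℕ := nat_lit 0x28a0664a2d0daab9a93778d04a38e0
def T60 : ℕ := nat_lit 0x5906a6d2708caa94582613dcc2dc07
def T61 : ℕ := nat_lit 0x129b28b9f031664bd18b02076a9d21
def t0 : TT ℕ := (.node (.node (.leaf T0 T1) (.leaf T1 T0)) (.node (.leaf T2 T2) (.node (.leaf T4 T5) (.leaf T5 T4))))
def t0x : TT ℕ := (.node t0 (.node (.leaf T6 T7) (.leaf T8 T9)))
def t2 : TT ℕ := (.node (.leaf T12 T12) (.node (.leaf T10 T11) (.leaf T11 T10)))
def t1 : TT ℕ := (.node (.node (.node (.leaf T14 T15) (.leaf T16 T17)) (.node (.leaf T18 T19) (.leaf T16 T17))) (.node (.node (.leaf T22 T23) (.leaf T24 T25)) (.node (.leaf T26 T27) (.leaf T28 T29))))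
def t1i : TT ℕ := (.node (.node (.node (.leaf T15 T14) (.leaf T17 T16)) (.node (.leaf T19 T18) (.leaf T17 T16))) (.node (.node (.leaf T23 T22) (.leaf T25 T24)) (.node (.leaf T27 T26) (.leaf T29 T28))))
def s0 : TT ℕ := (.node t1 t1i)
def s1 : TT ℕ := (.node (.node (.leaf T30 T31) (.node (.leaf T31 T30) (.leaf T32 T33))) (.node (.leaf T33 T32) (.node (.leaf T34 T35) (.leaf T35 T34))))
def s2 : TT ℕ := (.node (.node (.leaf T36 T37) (.node (.leaf T37 T36) (.leaf T38 T39))) (.node (.leaf T39 T38) (.node (.leaf T40 T41) (.leaf T41 T40))))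
def s3 : TT ℕ := (.node (.node (.leaf T42 T43) (.node (.leaf T43 T42) (.leaf T44 T45))) (.node (.leaf T45 T44) (.node (.leaf T46 T47) (.leaf T47 T46))))
def s4 : TT ℕ := (.node (.node (.leaf T48 T49) (.leaf T49 T48)) (.node (.leaf T50 T51) (.leaf T51 T50)))
def s5 : TT ℕ := (.node (.node (.leaf T52 T52) (.leaf T54 T55)) (.node (.leaf T55 T54) (.leaf T56 T56)))
def s6 : TT ℕ := (.node (.leaf T58 T59) (.leaf T59 T58))
def sx : TT ℕ := (.node (.leaf T10 T11) (.leaf T60 T61))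
def tt : TT ℕ := (.node (.node (.node sx s0) (.node s1 s2)) (.node (.node s3 s4) (.node s5 s6)))
def bs : List ℕ := [nat_lit 0, nat_lit 17, nat_lit 4, nat_lit 18, nat_lit 9, nat_lit 10, nat_lit 8]
def gL0 : Lv := ⟨nat_lit 0, nat_lit 0xffffff, nat_lit 24⟩
def gC0 : LvC := ⟨gL0, [nat_lit 132, nat_lit 196, nat_lit 164, nat_lit 228, nat_lit 148, nat_lit 212, nat_lit 180, nat_lit 244], [nat_lit 0xc5a2045badc5c0302b2d165058159ecb61b001c0c05020080200]⟩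
def gL1 : Lv := ⟨nat_lit 17, nat_lit 0xfffffe, nat_lit 23⟩
def gC1 : LvC := ⟨gL1, [nat_lit 34, nat_lit 114, nat_lit 90], [nat_lit 0x5256208841c46230bc964d1685cae0422090205018044a2310]⟩
def gL2 : Lv := ⟨nat_lit 4, nat_lit 0xfdfffe, nat_lit 22⟩
def gC2 : LvC := ⟨gL2, [nat_lit 38, nat_lit 118, nat_lit 94], [nat_lit 0x320b8dc0626229248442110385c0a250345a162b0d808240]⟩
def gL3 : Lv := ⟨nat_lit 18, nat_lit 0xfdffee, nat_lit 21⟩
def gC3 : LvC := ⟨gL3, [nat_lit 33, nat_lit 113, nat_lit 89], [nat_lit 0x1104c124616850604f16130580812914544a15048a4320]⟩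
def gL4 : Lv := ⟨nat_lit 9, nat_lit 0xf9ffee, nat_lit 20⟩
def gC4 : LvC := ⟨gL4, [nat_lit 37, nat_lit 45], [nat_lit 0xb4602814058542a098985617118540e270289412290]⟩
def gL5 : Lv := ⟨nat_lit 10, nat_lit 0xd8ddee, nat_lit 16⟩
def gC5 : LvC := ⟨gL5, [nat_lit 35, nat_lit 51, nat_lit 59], [nat_lit 0xb8a84c25904820221088062f1b8a8942a0]⟩
def gL6 : Lv := ⟨nat_lit 8, nat_lit 0x800120, nat_lit 3⟩
def gC6 : LvC := ⟨gL6, [nat_lit 23], [nat_lit 303232]⟩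
def gCs : List LvC := [gC0, gC1, gC2, gC3, gC4, gC5, gC6]
def cL0 : Lv := ⟨nat_lit 2, nat_lit 0xe0206c, nat_lit 8⟩
def cC0 : LvC := ⟨cL0, [nat_lit 0xcc492322ced637, nat_lit 0x29260b217cb242d6d46b], [nat_lit 0x986e37068586c020]⟩
def cL1 : Lv := ⟨nat_lit 3, nat_lit 0xe02068, nat_lit 7⟩
def cC1 : LvC := ⟨cL1, [nat_lit 0x158d0be59945252ec6b, nat_lit 0x14893a7b6599697a37], [nat_lit 0x4a151a85c46230]⟩
def cL2 : Lv := ⟨nat_lit 5, nat_lit 0xe02060, nat_lit 6⟩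
def cC2 : LvC := ⟨cL2, [nat_lit 0xe497cb267bf, nat_lit 0x2b14d2c8a67b], [nat_lit 0x37068546a050]⟩
def cL3 : Lv := ⟨nat_lit 6, nat_lit 0xe00040, nat_lit 4⟩
def cC3 : LvC := ⟨cL3, [nat_lit 0x128905908c6c43daaf6b, nat_lit 0x158112eb6d8296b6abf], [nat_lit 0xd44c260]⟩
def cL4 : Lv := ⟨nat_lit 0, nat_lit 0x1fdf93, nat_lit 16⟩
def cC4 : LvC := ⟨cL4, [nat_lit 0x118213be58212f4ab7, nat_lit 0x626425990a7bda8e637, nat_lit 0x1e81124be591642bf, nat_lit 0x5604535b6c8957b7], [nat_lit 0x9cc271371b888703814ce6531018080200]⟩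
def cCs : List LvC := [cC0, cC1, cC2, cC3, cC4]
def pcg : List ℕ := [nat_lit 0x15811a50be3191642d2b563, nat_lit 0x9449d3cf199e94a37, nat_lit 0xa449918c8b216d663f, nat_lit 0x5604509df2c16d67bf, nat_lit 0x128904276210f7b57, nat_lit 0x1575f18ccf7b57, nat_lit 0x8c535b2c8b25eec6b, nat_lit 0x212a642d9e3079e95637, nat_lit 0x3112e9ed96659aed63f, nat_lit 0x626425990a7bda8e637]
def pcc : List (ℕ × List ℕ) := [(nat_lit 327, [nat_lit 0x11061c9, nat_lit 8519, nat_lit 0x3105187209, nat_lit 0x107209, nat_lit 329, nat_lit 391, nat_lit 457, nat_lit 521, nat_lit 9]), (nat_lit 0x31061c8, [nat_lit 0x1105187, nat_lit 0x20c4148, nat_lit 199, nat_lit 16840, nat_lit 20872, nat_lit 392, nat_lit 7, nat_lit 8]), (nat_lit 0, [nat_lit 4359, nat_lit 545159, nat_lit 199, nat_lit 4, nat_lit 327, nat_lit 391, nat_lit 7]), (nat_lit 12614, [nat_lit 278854, nat_lit 133, nat_lit 198, nat_lit 262, nat_lit 326, nat_lit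 6]), (nat_lit 0, [nat_lit 1, nat_lit 2, nat_lit 3, nat_lit 4, nat_lit 5]), (nat_lit 0, [nat_lit 68, nat_lit 2, nat_lit 3, nat_lit 4]), (nat_lit 0, [nat_lit 1, nat_lit 2, nat_lit 3]), (nat_lit 0, [nat_lit 1, nat_lit 2]), (nat_lit 0, [nat_lit 1]), (nat_lit 0, [])]
def tls : List TL := [⟨gL0, true, nat_lit 0, [(nat_lit 0xfcca296b6abf, nat_lit 0x8310524a), (nat_lit 0xb4ef96659697bb7, nat_lit 4360)]⟩, ⟨gL1, false, nat_lit 0, [(nat_lit 0x14911a596453daed63, nat_lit 0x1083109)]⟩, ⟨gL2, false, nat_lit 0, [(nat_lit 0xf409d25b6212f4b3f, nat_lit 0x20c520a)]⟩, ⟨gL3, false, nat_lit 0, [(nat_lit 0xa498d0b678dced637, nat_lit 0x41461c824a)]⟩, ⟨gL4, false, nat_lit 0, [(nat_lit 0x1489142fb664292946b, nat_lit 807434)]⟩, ⟨gL5, false, nat_lit 0, [(nat_lit 0x15811a50be3191642d2b563, nat_lit 1)]⟩, ⟨gL6, false, nat_lit 0, [(nat_lit 0x8408d2848b3d2957bf, nat_lit 0x420c520a)]⟩]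
def ct0 : CT := (.cons (nat_lit 0) (nat_lit 1) (.cons (nat_lit 17) (nat_lit 1) (.cons (nat_lit 4) (nat_lit 1) (.cons (nat_lit 18) (nat_lit 1) (.cons (nat_lit 9) (nat_lit 1) (.cons (nat_lit 10) (nat_lit 1) (.cons (nat_lit 8) (nat_lit 1) (.leaf (nat_lit 0) (nat_lit 0) (nat_lit 0)) .nil) .nil) .nil) .nil) .nil) .nil) (.cons (nat_lit 16) (nat_lit 196) (.cons (nat_lit 7) (nat_lit 403010) (.cons (nat_lit 1) (nat_lit 0x1899096) (.cons (nat_lit 15) (nat_lit 0x18990966429) (.cons (nat_lit 10) (nat_lit 0xc4c84b3214f7b5) (.cons (nat_lit 9) (nat_lit 0x626425990a7bda8e63) (.cons (nat_lit 11) (nat_lit 0x626425990a7bda8e637) (.leaf (nat_lit 3) (nat_lit 1) (nat_lit 0)) .nil) .nil) .nil) .nil) .nil) .nil) .nil))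
def exts : List ℕ := []
def ks : List KE := [⟨nat_lit 1, nat_lit 16, [(nat_lit 1, nat_lit 1, nat_lit 0)]⟩, ⟨nat_lit 5, nat_lit 24, []⟩]
def tsts : List (ℕ × ℕ × ℕ) := [(nat_lit 55, nat_lit 46, nat_lit 20), (nat_lit 59, nat_lit 29, nat_lit 22), (nat_lit 59, nat_lit 29, nat_lit 0), (nat_lit 55, nat_lit 46, nat_lit 6), (nat_lit 0xeb575eb57, nat_lit 0xaead7aead7a, nat_lit 16)]
def qs : List ℕ := [nat_lit 16, nat_lit 13, nat_lit 8, nat_lit 2, nat_lit 19, nat_lit 6, nat_lit 3]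
def ld : ℕ := nat_lit 1
def cv : ℕ := nat_lit 0xfeffff

end Cfsg.Agent.H55.OutM24
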